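import Cfsg.Agent.CoTwoUniq.Fusion.Syl

/-!
A set of sign changes invariant under the monomial centraliser of the marked word, and transitively
permuted by linear bijections preserving it, is the set of words of weight sixteen.
-/

set_option autoImplicit false
set_option maxRecDepth 100000
set_option Elab.async false

open Cfsg

namespace Cfsg.Agent.CoTwoUniq.Fus

open CosetCert (force force_eq)

/-- The positions of the octad, as a mask. -/
def omask : ℕ := 9347075

/-- A permutation fixing the marked word. -/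
def oGenP (b : ℕ) : List ℕ := FusData.oP.getD b []

theorem oGen_chk : ∀ b : Fin 2, PermOK (oGenP b) (FusData.oQ.getD b []) ∧
    (∀ i < 24, (oGenP b).getD i 0 < 24) ∧ (oGenP b).length = 24 ∧
    pmask (oGenP b) Data.zm = Data.zm := by
  decide +kernel

/-- The orbit of a class, with parents. -/
def orbE (i p : ℕ) : ℕ × ℕ × ℕ := (FusData.oOrb.getD i []).getD p (0, 0, 0)

/-- Its words. -/
def orbW (i : ℕ) : List ℕ := (FusData.oOrb.getD i []).map Prod.fst

/-- An entry is a sign change conjugate to an earlier one. -/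
noncomputable def entryOK (i p : ℕ) : Bool :=
  Nat.beq p 0 || force (orbE i p).2.1 fun a => force (orbE i p).2.2 fun b =>
    Nat.blt a p && Nat.blt b 2 && Nat.beq (pmask (oGenP b) (orbE i a).1) (orbE i p).1

/-- The orbit list is connected and avoids or consists of the weight sixteen. -/
noncomputable def orbOK (i : ℕ) : Bool :=
  ((List.range (FusData.oOrb.getD i []).length).all fun p => entryOK i p) &&
    !(orbW i).isEmpty && (orbW i).all fun n => (Nat.beq (pop n) 16) == Nat.ble 5 i

theorem orb_0 : ((List.range 3).all orbOK) = true := by decide +kernel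

theorem orb_1 : ((List.range 4).all fun i => orbOK (i + 3)) = true := by decide +kernel

/-- The keys of a list. -/
noncomputable def kset : List ℕ → ℕ → ℕ
  | [], acc => acc
  | a :: t, acc => force (acc ||| 2 ^ (a % 4096)) fun acc' => kset t acc'

/-- The candidate set of a subset of the classes. -/
def candF (s : ℕ) : List ℕ :=
  Data.zm :: ((List.range 7).filter fun i => s.testBit i).flatMap orbW

/-- The number of ways to write `v` as a sum of two members. -/
noncomputable def fcount (F : List ℕ) (ks v : ℕ) : ℕ :=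
  F.countP fun u => ks.testBit ((u ^^^ v) % 4096)

/-- The number of ways to write `v` as a sum of three members. -/
noncomputable def tcount (F : List ℕ) (ks v : ℕ) : ℕ :=
  (F.map fun u => fcount F ks (u ^^^ v)).sum

/-- A candidate is the wanted one or is refuted. -/
noncomputable def candOK (s : ℕ) : Bool :=
  force (kset (candF s) 0) fun ks =>
    Leech.Model.noRep 0 ((candF s).map (· % 4096)) && (Nat.beq s 0 || Nat.beq s 96 ||
      ((List.range 7).any fun i => s.testBit i &&
        !(Nat.beq (fcount (candF s) ks ((orbW i).headD 0)) (fcount (candF s) ks Data.zm))) ||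
      (List.range 7).any fun i => s.testBit i &&
        !(Nat.beq (tcount (candF s) ks ((orbW i).headD 0)) (tcount (candF s) ks Data.zm)))

theorem cand_0 : ((List.range 64).all candOK) = true := by decide +kernel

theorem cand_1 : ((List.range 64).all fun s => candOK (s + 64)) = true := by decide +kernel

theorem cover_chk : (avMasks.all fun n => Nat.beq (n &&& omask) 0 || Nat.beq n Data.zm ||
    (kset ((List.range 7).flatMap orbW) 0).testBit (n % 4096)) = true := by decide +kernel

theorem oOrb_av : ((List.range 7).all fun i => ((orbW i).take 1).all fun n => avMasks.contains n) = true := by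
  decide +kernel

theorem kset_sound : ∀ (l : List ℕ) (acc j : ℕ), (kset l acc).testBit j = true ↔
    acc.testBit j = true ∨ ∃ n ∈ l, n % 4096 = j
  | [], acc, j => by simp [kset]
  | a :: t, acc, j => by
    rw [kset, force_eq, kset_sound t, Nat.testBit_or, Bool.or_eq_true, Nat.testBit_two_pow,
      decide_eq_true_eq]
    simp only [List.mem_cons, exists_eq_or_imp, or_assoc]

theorem mask_eq_of_mod {m n : ℕ} (hm : m ∈ avMasks) (hn : n ∈ avMasks)
    (h : m % 4096 = n % 4096) : m = n :=
  sgn_inj hm hn (sgn_eq_of_mod (avMasks_spec m hm) (avMasks_spec n hn) h)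

/-- A generator as an element. -/
def oEl (b : ℕ) : K2 := if h : b < 2 then pm (oGen_chk ⟨b, h⟩).1 else 1

theorem oEl_spec {b : ℕ} (hb : b < 2) :
    oEl b ∈ C1 ∧ ∀ n ∈ avMasks, pmask (oGenP b) n ∈ avMasks ∧
      oEl b * sgn n * (oEl b)⁻¹ = sgn (pmask (oGenP b) n) := by
  obtain ⟨h1, h2, h3, h4⟩ := oGen_chk ⟨b, hb⟩
  rw [oEl, dif_pos hb]
  have hr := real_pm h1 h2
  have hm : ∀ n ∈ avMasks, pmask (oGenP b) n ∈ avMasks ∧
      pm h1 * sgn n * (pm h1)⁻¹ = sgn (pmask (oGenP b) n) := fun n hn =>
    pmask_mem hr ⟨h3, h2, Nat.two_pow_pos 24⟩ (pm_mem h1) hn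
  refine ⟨Subgroup.mem_centralizer_singleton_iff.2 ?_, hm⟩
  have e := (hm _ base_facts.1.1).2
  rw [h4, sgn_zm] at e
  exact mul_inv_eq_iff_eq_mul.1 e

theorem orb_all {i : ℕ} (hi : i < 7) : orbOK i = true := by
  rcases Nat.lt_or_ge i 3 with h | h
  · exact all_range orb_0 h
  · have := all_range orb_1 (show i - 3 < 4 by omega)
    rwa [Nat.sub_add_cancel h] at this

/-- Along an orbit an invariant property is constant. -/
theorem orb_iff {P : ℕ → Prop} (hinv : ∀ b, b < 2 → ∀ n ∈ avMasks, (P (pmask (oGenP b) n) ↔ P n))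
    {i n : ℕ} (hi : i < 7) (hn : n ∈ orbW i) : n ∈ avMasks ∧ (P n ↔ P ((orbW i).headD 0)) := by
  have h := orb_all hi
  simp only [orbOK, Bool.and_eq_true, Bool.not_eq_true'] at h
  obtain ⟨⟨h1, h2⟩, -⟩ := h
  obtain ⟨p, hp, rfl⟩ := List.getElem_of_mem hn
  have hpl : p < (FusData.oOrb.getD i []).length := by simpa [orbW] using hp
  have e : (orbW i)[p] = (orbE i p).1 := by
    simp only [orbW, orbE, List.getElem_map]
    rw [List.getD_eq_getElem _ _ hpl]
  rw [e]
  clear hn e hp
  have hne : orbW i ≠ [] := fun h => by rw [h] at h2; cases h2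
  induction p using Nat.strong_induction_on with
  | _ p ih =>
    by_cases hp0 : p = 0
    · subst hp0
      have e0 : (orbE i 0).1 = (orbW i).headD 0 := by
        simp only [orbW, orbE]
        cases hl : FusData.oOrb.getD i [] <;> simp
      rw [e0]
      refine ⟨?_, Iff.rfl⟩
      have := all_range oOrb_av hi
      cases hw : orbW i with
      | nil => exact absurd hw hne
      | cons a t =>
        rw [hw] at this
        simp only [List.take_succ_cons, List.take_zero, List.all_cons, List.all_nil, Bool.and_true] at this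
        exact List.contains_iff_mem.1 this
    have h' := all_range h1 hpl
    simp only [entryOK, force_eq, Bool.or_eq_true, Bool.and_eq_true] at h'
    rcases h' with h' | ⟨⟨ha, hb⟩, he⟩
    · exact absurd (Nat.eq_of_beq_eq_true h') hp0
    · have ha' : (orbE i p).2.1 < p := Nat.ble_eq.mp ha
      have hb' : (orbE i p).2.2 < 2 := Nat.ble_eq.mp hb
      obtain ⟨hm, hi'⟩ := ih _ ha' (ha'.trans hpl)
      have hmem := ((oEl_spec hb').2 _ hm).1
      rw [Nat.eq_of_beq_eq_true he] at hmem
      refine ⟨hmem, ?_⟩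
      rw [← Nat.eq_of_beq_eq_true he, hinv _ hb' _ hm, hi']

/-- The classification of the invariant sets. -/
theorem weight_sixteen (P : ℕ → Prop) (hz : P Data.zm) (hex : ∃ n ∈ avMasks, n ≠ Data.zm ∧ P n)
    (hoct : ∀ n ∈ avMasks, P n → n = Data.zm ∨ n &&& omask ≠ 0)
    (hinv : ∀ b, b < 2 → ∀ n ∈ avMasks, (P (pmask (oGenP b) n) ↔ P n))
    (htr : ∀ n ∈ avMasks, P n → ∃ φ : ℕ → ℕ, φ Data.zm = n ∧
      ∀ u ∈ avMasks, φ u ∈ avMasks ∧ (P (φ u) ↔ P u) ∧
        ∀ v ∈ avMasks, φ (u ^^^ v) = φ u ^^^ φ v ∧ (φ u = φ v → u = v)) :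
    ∀ n ∈ avMasks, (P n ↔ pop n = 16) := by
  classical
  let s : ℕ := (List.range 7).foldr (fun i acc => (if P ((orbW i).headD 0) then 2 ^ i else 0) ||| acc) 0
  have hs : ∀ j, s.testBit j = true ↔ j < 7 ∧ P ((orbW j).headD 0) := by
    have key : ∀ (l : List ℕ) (j : ℕ),
        (l.foldr (fun i acc => (if P ((orbW i).headD 0) then 2 ^ i else 0) ||| acc) 0).testBit j = true ↔
          j ∈ l ∧ P ((orbW j).headD 0) := by
      intro l j
      induction l with
      | nil => simp
      | cons a t ih =>
        rw [List.foldr_cons, Nat.testBit_or, Bool.or_eq_true, ih]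
        split_ifs with h
        · rw [Nat.testBit_two_pow, decide_eq_true_eq, List.mem_cons]
          exact ⟨fun h' => h'.elim (fun e => ⟨Or.inl e.symm, e ▸ h⟩) (fun h' => ⟨Or.inr h'.1, h'.2⟩),
            fun ⟨h1, h2⟩ => h1.elim (fun e => Or.inl e.symm) (fun h1 => Or.inr ⟨h1, h2⟩)⟩
        · rw [Nat.zero_testBit, List.mem_cons]
          exact ⟨fun h' => h'.elim (fun e => absurd e (by simp)) (fun h' => ⟨Or.inr h'.1, h'.2⟩),
            fun ⟨h1, h2⟩ => h1.elim (fun e => absurd (e ▸ h2) h) (fun h1 => Or.inr ⟨h1, h2⟩)⟩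
    intro j
    rw [key, List.mem_range]
  have hF : ∀ n, (n ∈ avMasks ∧ P n) ↔ n ∈ candF s := by
    intro n
    rw [candF, List.mem_cons, List.mem_flatMap]
    constructor
    · rintro ⟨hn, hP⟩
      by_cases hnz : n = Data.zm
      · exact Or.inl hnz
      have h := List.all_eq_true.1 cover_chk n hn
      simp only [Bool.or_eq_true] at h
      rcases h with (h | h) | h
      · exact absurd (Nat.eq_of_beq_eq_true h) ((hoct n hn hP).resolve_left hnz)
      · exact absurd (Nat.eq_of_beq_eq_true h) hnz
      · rcases (kset_sound _ _ _).1 h with h | ⟨m, hm, he⟩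
        · simp at h
        obtain ⟨i, hi, hmi⟩ := List.mem_flatMap.1 hm
        rw [List.mem_range] at hi
        obtain ⟨hmav, hiff⟩ := orb_iff hinv hi hmi
        obtain rfl := mask_eq_of_mod hmav hn he
        exact Or.inr ⟨i, List.mem_filter.2 ⟨List.mem_range.2 hi, (hs i).2 ⟨hi, hiff.1 hP⟩⟩, hmi⟩
    · rintro (rfl | ⟨i, hi, hni⟩)
      · exact ⟨base_facts.1.1, hz⟩
      obtain ⟨hi7, hbit⟩ := List.mem_filter.1 hi
      obtain ⟨hn, hiff⟩ := orb_iff hinv (List.mem_range.1 hi7) hni
      exact ⟨hn, hiff.2 ((hs i).1 hbit).2⟩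
  have hs128 : s < 128 := by
    refine Nat.lt_of_testBit 7 ?_ (by decide) fun j hj => ?_
    · by_contra h
      exact absurd ((hs 7).1 (by simpa using h)).1 (by norm_num)
    · have : Nat.testBit 128 j = false := by
        rw [show (128 : ℕ) = 2 ^ 7 by norm_num, Nat.testBit_two_pow_of_ne (by omega)]
      rw [this]
      by_contra h
      exact absurd ((hs j).1 (by simpa using h)).1 (by omega)
  have hc : candOK s = true := by
    rcases Nat.lt_or_ge s 64 with h | h
    · exact all_range cand_0 h
    · have := all_range cand_1 (show s - 64 < 64 by omega)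
      rwa [Nat.sub_add_cancel h] at this
  simp only [candOK, force_eq, Bool.and_eq_true, Bool.or_eq_true] at hc
  obtain ⟨hnd, hc⟩ := hc
  have hnodup : (candF s).Nodup := List.Nodup.of_map _ (Leech.Model.noRep_spec _ 0 hnd).1
  have hks : ∀ u ∈ avMasks, (kset (candF s) 0).testBit (u % 4096) = true ↔ P u := by
    intro u hu
    rw [kset_sound]
    constructor
    · rintro (h | ⟨m, hm, he⟩)
      · simp at h
      obtain ⟨hmav, hP⟩ := (hF m).2 hm
      exact mask_eq_of_mod hmav hu he ▸ hP
    · exact fun hP => Or.inr ⟨u, (hF u).1 ⟨hu, hP⟩, rfl⟩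
  -- the counts are constant on the set
  have hconst : ∀ n ∈ avMasks, P n →
      fcount (candF s) (kset (candF s) 0) n = fcount (candF s) (kset (candF s) 0) Data.zm ∧
      tcount (candF s) (kset (candF s) 0) n = tcount (candF s) (kset (candF s) 0) Data.zm := by
    intro n hn hP
    obtain ⟨φ, hφz, hφ⟩ := htr n hn hP
    have hperm : ((candF s).map φ).Perm (candF s) := by
      have hnd' : ((candF s).map φ).Nodup := hnodup.map_on fun u hu v hv e =>
        ((hφ u ((hF u).2 hu).1).2.2 v ((hF v).2 hv).1).2 e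
      refine (List.subperm_of_subset hnd' fun w hw => ?_).perm_of_length_le (by simp)
      obtain ⟨u, hu, rfl⟩ := List.mem_map.1 hw
      obtain ⟨huav, huP⟩ := (hF u).2 hu
      exact (hF _).1 ⟨(hφ u huav).1, (hφ u huav).2.1.2 huP⟩
    have hf : ∀ v ∈ avMasks, fcount (candF s) (kset (candF s) 0) (φ v) =
        fcount (candF s) (kset (candF s) 0) v := by
      intro v hv
      rw [fcount, ← hperm.countP_eq, List.countP_map, fcount]
      refine List.countP_congr fun u hu => ?_
      obtain ⟨huav, -⟩ := (hF u).2 hu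
      obtain ⟨e1, e2⟩ := ((hφ u huav).2.2 v hv)
      have hx := avMasks_xor huav hv
      simp only [Function.comp_apply]
      rw [← e1, hks _ (hφ _ hx).1, hks _ hx]
      exact (hφ _ hx).2.1
    refine ⟨hφz ▸ hf _ base_facts.1.1, ?_⟩
    rw [tcount, ← (hperm.map _).sum_eq, List.map_map, tcount]
    refine congrArg List.sum (List.map_congr_left fun u hu => ?_)
    obtain ⟨huav, -⟩ := (hF u).2 hu
    simp only [Function.comp_apply]
    rw [← hφz, ← ((hφ u huav).2.2 _ base_facts.1.1).1]
    exact hf _ (avMasks_xor huav base_facts.1.1)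
  have hrep : ∀ i, i < 7 → s.testBit i = true →
      (orbW i).headD 0 ∈ avMasks ∧ P ((orbW i).headD 0) := by
    intro i hi hb
    refine ⟨?_, ((hs i).1 hb).2⟩
    have := orb_all hi
    simp only [orbOK, Bool.and_eq_true, Bool.not_eq_true'] at this
    cases hw : orbW i with
    | nil => rw [hw] at this; exact absurd this.1.2 (by simp)
    | cons a t =>
      refine (orb_iff hinv hi ?_).1
      rw [hw]; exact List.mem_cons_self
  have h96 : s = 96 := by
    rcases hc with ((h | h) | h) | h
    · exfalso
      obtain ⟨n, hn, hne, hP⟩ := hex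
      have := (hF n).1 ⟨hn, hP⟩
      rw [Nat.eq_of_beq_eq_true h] at this
      simp [candF] at this
      exact hne this
    · exact Nat.eq_of_beq_eq_true h
    · exfalso
      obtain ⟨i, hi, hi'⟩ := List.any_eq_true.1 h
      rw [Bool.and_eq_true, Bool.not_eq_true'] at hi'
      obtain ⟨hm, hP⟩ := hrep i (List.mem_range.1 hi) hi'.1
      rw [(hconst _ hm hP).1, Nat.beq_refl] at hi'
      exact Bool.noConfusion hi'.2
    · exfalso
      obtain ⟨i, hi, hi'⟩ := List.any_eq_true.1 h
      rw [Bool.and_eq_true, Bool.not_eq_true'] at hi'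
      obtain ⟨hm, hP⟩ := hrep i (List.mem_range.1 hi) hi'.1
      rw [(hconst _ hm hP).2, Nat.beq_refl] at hi'
      exact Bool.noConfusion hi'.2
  have hpopO : ∀ i, i < 7 → ∀ n ∈ orbW i, (pop n = 16 ↔ 5 ≤ i) := by
    intro i hi n hn
    have := orb_all hi
    simp only [orbOK, Bool.and_eq_true] at this
    have h := List.all_eq_true.1 this.2 n hn
    rw [beq_iff_eq] at h
    by_cases e : pop n = 16
    · rw [e, Nat.beq_refl] at h
      exact ⟨fun _ => Nat.ble_eq.mp h.symm, fun _ => e⟩
    · rw [show Nat.beq (pop n) 16 = false from eq_false_of_ne_true fun hh => e (Nat.eq_of_beq_eq_true hh)] at h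
      exact ⟨fun h' => absurd h' e, fun h' => by rw [Nat.ble_eq.mpr h'] at h; cases h⟩
  have hin : ∀ i, i < 7 → ((96 : ℕ).testBit i = true ↔ 5 ≤ i) := by decide
  intro n hn
  constructor
  · intro hP
    have := (hF n).1 ⟨hn, hP⟩
    rw [candF, List.mem_cons, List.mem_flatMap] at this
    rcases this with rfl | ⟨i, hi, hni⟩
    · exact base_facts.1.2
    · obtain ⟨hi7, hb⟩ := List.mem_filter.1 hi
      rw [h96] at hb
      exact (hpopO i (List.mem_range.1 hi7) n hni).2 ((hin i (List.mem_range.1 hi7)).1 hb)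
  · intro hpop
    by_cases hnz : n = Data.zm
    · exact hnz ▸ hz
    have h := List.all_eq_true.1 cover_chk n hn
    simp only [Bool.or_eq_true] at h
    rcases h with (h | h) | h
    · have key : (avMasks.all fun n => !(Nat.beq (pop n) 16) || Nat.beq n Data.zm ||
          !(Nat.beq (n &&& omask) 0)) = true := by decide +kernel
      have := List.all_eq_true.1 key n hn
      rw [hpop, Nat.beq_refl, h, show Nat.beq n Data.zm = false from
        eq_false_of_ne_true fun hh => hnz (Nat.eq_of_beq_eq_true hh)] at this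
      exact absurd this (by simp)
    · exact absurd (Nat.eq_of_beq_eq_true h) hnz
    · rcases (kset_sound _ _ _).1 h with h | ⟨m, hm, he⟩
      · simp at h
      obtain ⟨i, hi, hmi⟩ := List.mem_flatMap.1 hm
      rw [List.mem_range] at hi
      obtain ⟨hmav, hiff⟩ := orb_iff hinv hi hmi
      obtain rfl := mask_eq_of_mod hmav hn he
      refine hiff.2 ((hs i).1 ?_).2
      rw [h96]
      exact (hin i hi).2 ((hpopO i hi _ hmi).1 hpop)

end Cfsg.Agent.CoTwoUniq.Fus
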