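import Cfsg.Agent.CoTwoUniq.Fusion.Cover
import Cfsg.Agent.CoTwoUniq.Fusion.Orbit
import Cfsg.Agent.CoTwoUniq.Mono.Mover

/-!
Fusion of the marked involution in a group with the centraliser of the model: the image of the sign
changes is weakly closed in a Sylow subgroup, so its normaliser controls fusion among sign changes,
and the conjugates there are the words of weight sixteen.
-/

set_option autoImplicit false
set_option maxHeartbeats 1000000

open Cfsg

namespace Cfsg.Agent.CoTwoUniq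

open Fus

universe u

variable {G : Type u} [Group G] [Finite G] {z : G} (K : CentEmb z)

/-- The marked involution is weakly closed in the radical of its centraliser. -/
def CentEmb.Weak : Prop :=
  ∀ x : ↥C1, x ∈ pCore 2 ↥C1 → IsConj (K.g x) z → (x : K2) = z0

/-- Another conjugate centralises the involution. -/
def CentEmb.HasOut : Prop := ∃ x : ↥C1, (x : K2) ≠ z0 ∧ IsConj (K.g x) z

namespace CentEmb

/-- The embedding on elements of the model. -/
noncomputable def kg (x : K2) : G := by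
  classical exact if h : x ∈ C1 then K.g ⟨x, h⟩ else 1

omit [Finite G] in
theorem kg_eq {x : K2} (h : x ∈ C1) : K.kg x = K.g ⟨x, h⟩ := dif_pos h

omit [Finite G] in
theorem kg_mul {x y : K2} (hx : x ∈ C1) (hy : y ∈ C1) : K.kg (x * y) = K.kg x * K.kg y := by
  rw [K.kg_eq hx, K.kg_eq hy, K.kg_eq (mul_mem hx hy), ← map_mul]
  rfl

omit [Finite G] in
theorem kg_inj {x y : K2} (hx : x ∈ C1) (hy : y ∈ C1) (h : K.kg x = K.kg y) : x = y := by
  rw [K.kg_eq hx, K.kg_eq hy] at h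
  exact congrArg Subtype.val (K.inj h)

omit [Finite G] in
theorem kg_inv {x : K2} (hx : x ∈ C1) : K.kg x⁻¹ = (K.kg x)⁻¹ := by
  rw [K.kg_eq hx, K.kg_eq (inv_mem hx), ← map_inv]
  rfl

omit [Finite G] in
theorem kg_one : K.kg 1 = 1 := by rw [K.kg_eq (one_mem C1)]; exact map_one K.g

omit [Finite G] in
theorem kg_z0 : K.kg z0 = z := by rw [K.kg_eq (Subgroup.mem_centralizer_singleton_iff.mpr rfl)]; exact K.map_z

omit [Finite G] in
theorem kg_conj {k x : K2} (hk : k ∈ C1) (hx : x ∈ C1) :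
    K.kg (k * x * k⁻¹) = K.kg k * K.kg x * (K.kg k)⁻¹ := by
  rw [K.kg_mul (mul_mem hk hx) (inv_mem hk), K.kg_mul hk hx, K.kg_inv hk]

omit [Finite G] in
theorem exists_pre {a : G} (ha : a * z = z * a) : ∃ x, x ∈ C1 ∧ K.kg x = a := by
  have : a ∈ K.g.range := by rw [K.range_eq]; exact Subgroup.mem_centralizer_singleton_iff.2 ha
  obtain ⟨⟨x, hx⟩, rfl⟩ := this
  exact ⟨x, hx, K.kg_eq hx⟩

omit [Finite G] in
theorem kg_comm {x : K2} (hx : x ∈ C1) : K.kg x * z = z * K.kg x := by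
  have hz0 : (z0 : K2) ∈ C1 := Subgroup.mem_centralizer_singleton_iff.mpr rfl
  have h := K.kg_mul hx hz0
  have h' := K.kg_mul hz0 hx
  rw [K.kg_z0] at h h'
  rw [← h, ← h', Subgroup.mem_centralizer_singleton_iff.1 hx]

/-- The image of a subgroup of the centraliser. -/
noncomputable def img (A : Subgroup K2) : Subgroup G := (A.subgroupOf C1).map K.g

omit [Finite G] in
theorem mem_img {A : Subgroup K2} (hA : A ≤ C1) {a : G} :
    a ∈ K.img A ↔ ∃ x ∈ A, K.kg x = a := by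
  constructor
  · rintro ⟨⟨x, hx⟩, hxA, rfl⟩
    exact ⟨x, hxA, K.kg_eq hx⟩
  · rintro ⟨x, hxA, rfl⟩
    exact ⟨⟨x, hA hxA⟩, hxA, (K.kg_eq _).symm⟩

omit [Finite G] in
theorem card_img {A : Subgroup K2} (hA : A ≤ C1) : Nat.card (K.img A) = Nat.card A := by
  rw [img, Subgroup.card_map_of_injective K.inj,
    Nat.card_congr (Subgroup.subgroupOfEquivOfLe hA).toEquiv]

/-- The preimage of a subgroup of the centraliser. -/
noncomputable def pre (B : Subgroup G) : Subgroup K2 := (B.comap K.g).map C1.subtype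

omit [Finite G] in
theorem mem_pre {B : Subgroup G} {x : K2} : x ∈ K.pre B ↔ x ∈ C1 ∧ K.kg x ∈ B := by
  constructor
  · rintro ⟨⟨x, hx⟩, hB, rfl⟩
    refine ⟨hx, ?_⟩
    show K.kg x ∈ B
    rw [K.kg_eq hx]; exact hB
  · rintro ⟨hx, hB⟩
    exact ⟨⟨x, hx⟩, by rw [K.kg_eq hx] at hB; exact hB, rfl⟩

omit [Finite G] in
theorem card_pre {B : Subgroup G} (hB : ∀ b ∈ B, b * z = z * b) : Nat.card (K.pre B) = Nat.card B := by
  rw [pre, Subgroup.card_map_of_injective C1.subtype_injective,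
    ← Subgroup.card_map_of_injective K.inj, Subgroup.map_comap_eq_self]
  intro b hb
  rw [K.range_eq]
  exact Subgroup.mem_centralizer_singleton_iff.2 (hB b hb)

end CentEmb

/-- The sign changes as a subgroup. -/
noncomputable def signs : Subgroup K2 where
  carrier := {x | ∃ n ∈ avMasks, x = sgn n}
  one_mem' := ⟨0, mask_zero, sgn_zero.symm⟩
  mul_mem' := by
    rintro _ _ ⟨m, hm, rfl⟩ ⟨n, hn, rfl⟩
    exact ⟨m ^^^ n, avMasks_xor hm hn, real_sgn_mul hm hn⟩
  inv_mem' := by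
    rintro _ ⟨n, hn, rfl⟩
    exact ⟨n, hn, inv_eq_of_mul_eq_one_right (sgn_mul_self (avMasks_spec n hn))⟩

theorem sgn_C1 {n : ℕ} (hn : n ∈ avMasks) : sgn n ∈ C1 := sylM_le.sgn_mem_C1' hn

theorem signs_le_sylM : signs ≤ sylM := by
  rintro _ ⟨n, hn, rfl⟩
  exact ⟨0, by norm_num, n, hn, (el_sgn n).symm⟩

theorem signs_le : signs ≤ C1 := signs_le_sylM.trans sylM_le

theorem card_signs : Nat.card signs = 1024 := by
  let f : Fin avMasks.length → signs := fun i => ⟨sgn avMasks[i], _, List.getElem_mem i.2, rfl⟩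
  have hf : Function.Bijective f := by
    refine ⟨fun i j e => ?_, fun ⟨x, n, hn, hx⟩ => ?_⟩
    · exact Fin.ext ((List.Nodup.getElem_inj_iff avMasks_facts.2).1
        (sgn_inj (List.getElem_mem i.2) (List.getElem_mem j.2) (congrArg Subtype.val e)))
    · obtain ⟨i, hi, rfl⟩ := List.getElem_of_mem hn
      exact ⟨⟨i, hi⟩, Subtype.ext hx.symm⟩
  rw [← Nat.card_eq_of_bijective f hf, Nat.card_fin, avMasks_facts.1]

theorem signs_comm {a b : K2} (ha : a ∈ signs) (hb : b ∈ signs) : a * b = b * a := by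
  obtain ⟨m, hm, rfl⟩ := ha
  obtain ⟨n, hn, rfl⟩ := hb
  exact sgn_comm (avMasks_spec m hm) (avMasks_spec n hn)

theorem signs_sq {a : K2} (ha : a ∈ signs) : a * a = 1 := by
  obtain ⟨m, hm, rfl⟩ := ha
  exact sgn_mul_self (avMasks_spec m hm)

theorem z0_sylM : (z0 : K2) ∈ sylM :=
  signs_le_sylM ⟨Data.zm, base_facts.1.1, sgn_zm.symm⟩

theorem z0_Q1 : (z0 : K2) ∈ Q1 := by
  refine ⟨Subgroup.mem_centralizer_singleton_iff.mpr rfl, fun v hv => ?_⟩
  rw [inc_z0, hv, map_one, one_smul]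

/-- A group of exponent two. -/
theorem isPGroup_of_sq {M : Type*} [Group M] (A : Subgroup M) (h : ∀ a ∈ A, a * a = 1) :
    IsPGroup 2 A := fun a => ⟨1, Subtype.ext (by
      rw [pow_one, Subgroup.coe_pow, pow_two]; exact h a a.2)⟩

/-- An elementary abelian subgroup of order `1024` of the centraliser is conjugate to the signs. -/
theorem conj_signs (A : Subgroup K2) (hA : A ≤ C1) (hc : ∀ a ∈ A, ∀ b ∈ A, a * b = b * a)
    (h2 : ∀ a ∈ A, a * a = 1) (hcard : 1024 ≤ Nat.card A) :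
    ∃ k ∈ C1, ∀ a ∈ A, k * a * k⁻¹ ∈ signs := by
  obtain ⟨k, hk, hin⟩ := conj_into_sylM A hA (isPGroup_of_sq A h2)
  refine ⟨k, hk, fun a ha => ?_⟩
  refine eq_sign_of_elementary (A.map (MulAut.conj k).toMonoidHom) ?_ ?_ ?_ ?_ _ ⟨a, ha, rfl⟩
  · rintro _ ⟨b, hb, rfl⟩; exact hin b hb
  · rintro _ ⟨b, hb, rfl⟩ _ ⟨c, hc', rfl⟩
    rw [← map_mul, ← map_mul, hc b hb c hc']
  · rintro _ ⟨b, hb, rfl⟩
    rw [← map_mul, h2 b hb, map_one]
  · rw [Subgroup.card_map_of_injective (MulAut.conj k).injective]; exact hcard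

/-- An involution of the centraliser is conjugate to a sign change or of the other kind. -/
theorem C1_invol {y : K2} (hy : y ∈ C1) (h2 : y * y = 1) : Good y ∨ Bad y := by
  obtain ⟨k, hk, hin⟩ := conj_into_sylM (Subgroup.zpowers y) (Subgroup.zpowers_le.2 hy)
    (isPGroup_of_sq _ (by
      rintro _ ⟨n, rfl⟩
      show y ^ n * y ^ n = 1
      rw [← (Commute.refl y).mul_zpow, h2, one_zpow]))
  have h := sylM_invol (hin y (Subgroup.mem_zpowers y)) (by
    calc k * y * k⁻¹ * (k * y * k⁻¹) = k * (y * y) * k⁻¹ := by group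
      _ = 1 := by rw [h2]; group)
  have e : y = k⁻¹ * (k * y * k⁻¹) * k⁻¹⁻¹ := by group
  rw [e]
  exact h.1.imp (·.conj (inv_mem hk)) (fun h' => h'.1.conj (inv_mem hk))

namespace CentEmb

/-- The image of the Sylow subgroup of the model is a Sylow subgroup of the group. -/
theorem sylow_img : ∃ P : Sylow 2 G, (P : Subgroup G) = K.img sylM := by
  classical
  have : Fact (Nat.Prime 2) := ⟨Nat.prime_two⟩
  have : Finite K2 := co2_finite
  have h2 : IsPGroup 2 (K.img sylM) :=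
    IsPGroup.of_card (n := 18) (by rw [K.card_img sylM_le, card_sylM])
  obtain ⟨P, hP⟩ := h2.exists_le_sylow
  -- the part centralising `z`
  have hcz : ∀ a ∈ (P : Subgroup G), a * z = z * a → a ∈ K.img sylM := by
    intro a ha haz
    set T := K.pre (P : Subgroup G) with hT
    have hTle : T ≤ C1 := fun x hx => (K.mem_pre.1 hx).1
    have hST : sylM ≤ T := fun x hx =>
      K.mem_pre.2 ⟨sylM_le hx, hP ((K.mem_img sylM_le).2 ⟨x, hx, rfl⟩)⟩
    have hT2 : IsPGroup 2 T := by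
      intro x
      obtain ⟨hx, hxP⟩ := K.mem_pre.1 x.2
      obtain ⟨j, hj⟩ := P.2 ⟨_, hxP⟩
      refine ⟨j, Subtype.ext (K.kg_inj (pow_mem hx _) (one_mem _) ?_)⟩
      have hpow : ∀ i : ℕ, K.kg ((x : K2) ^ i) = K.kg x ^ i := by
        intro i
        induction i with
        | zero => rw [pow_zero, pow_zero, K.kg_one]
        | succ i ih => rw [pow_succ, pow_succ, K.kg_mul (pow_mem hx _) hx, ih]
      show K.kg ((x : K2) ^ 2 ^ j) = K.kg 1
      rw [hpow]
      exact (congrArg Subtype.val hj).trans K.kg_one.symm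
    obtain ⟨k, hk, hin⟩ := conj_into_sylM T hTle hT2
    have hcard : Nat.card T ≤ Nat.card sylM := by
      have := Subgroup.card_le_of_le (show T.map (MulAut.conj k).toMonoidHom ≤ sylM by
        rintro _ ⟨x, hx, rfl⟩; exact hin x hx)
      rwa [Subgroup.card_map_of_injective (MulAut.conj k).injective] at this
    have hTS : sylM = T := Subgroup.eq_of_le_of_card_ge hST hcard
    obtain ⟨x, hx, rfl⟩ := K.exists_pre haz
    have hxT : x ∈ T := K.mem_pre.2 ⟨hx, ha⟩
    exact (K.mem_img sylM_le).2 ⟨x, hTS ▸ hxT, rfl⟩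
  have : Nontrivial (P : Subgroup G) := by
    refine Finite.one_lt_card_iff_nontrivial.1 (lt_of_lt_of_le ?_ (Subgroup.card_le_of_le hP))
    rw [K.card_img sylM_le, card_sylM]; norm_num
  have : Nontrivial (Subgroup.center (P : Subgroup G)) := P.2.center_nontrivial
  obtain ⟨⟨⟨w, hw⟩, hwc⟩, hw1⟩ := exists_ne (1 : Subgroup.center (P : Subgroup G))
  have hcen : ∀ b ∈ (P : Subgroup G), b * w = w * b := fun b hb =>
    congrArg Subtype.val (Subgroup.mem_center_iff.1 hwc ⟨b, hb⟩)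
  have hzP : z ∈ (P : Subgroup G) :=
    hP ((K.mem_img sylM_le).2 ⟨z0, z0_sylM, K.kg_z0⟩)
  obtain ⟨x, hx, hxw⟩ := (K.mem_img sylM_le).1 (hcz w hw (hcen z hzP).symm)
  have hwz : w = z := by
    rcases sylM_center hx (fun y hy => K.kg_inj (mul_mem (sylM_le hx) (sylM_le hy))
        (mul_mem (sylM_le hy) (sylM_le hx)) (by
      rw [K.kg_mul (sylM_le hx) (sylM_le hy), K.kg_mul (sylM_le hy) (sylM_le hx), hxw]
      exact (hcen _ (hP ((K.mem_img sylM_le).2 ⟨y, hy, rfl⟩))).symm)) with e | e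
    · rw [e, K.kg_one] at hxw
      exact absurd (Subtype.ext (Subtype.ext hxw.symm)) hw1
    · rw [e, K.kg_z0] at hxw; exact hxw.symm
  refine ⟨P, le_antisymm (fun a ha => hcz a ha ?_) hP⟩
  rw [← hwz]; exact hcen a ha

/-- Conjugates of the image of the signs in a two-subgroup coincide with it. -/
theorem signs_weakly_closed (g : G) (T : Subgroup G) (hT : IsPGroup 2 T)
    (h1 : K.img signs ≤ T) (h2 : (K.img signs).map (MulAut.conj g).toMonoidHom ≤ T) :
    (K.img signs).map (MulAut.conj g).toMonoidHom = K.img signs := by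
  classical
  have : Fact (Nat.Prime 2) := ⟨Nat.prime_two⟩
  obtain ⟨P, hP⟩ := hT.exists_le_sylow
  obtain ⟨P0, hP0⟩ := K.sylow_img
  obtain ⟨k, hk⟩ := MulAction.exists_smul_eq G P P0
  have hto : ∀ a ∈ T, k * a * k⁻¹ ∈ K.img sylM := fun a ha => by
    rw [← hP0, ← hk, Sylow.coe_subgroup_smul, Subgroup.mem_pointwise_smul_iff_inv_smul_mem,
      MulAut.smul_def, ← map_inv, MulAut.conj_apply, inv_inv,
      show k⁻¹ * (k * a * k⁻¹) * k = a by group]
    exact hP ha
  -- both conjugates become the image of the signs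
  have key : ∀ c : G, (K.img signs).map (MulAut.conj c).toMonoidHom ≤ T →
      (K.img signs).map (MulAut.conj (k * c)).toMonoidHom = K.img signs := by
    intro c hc
    set B := (K.img signs).map (MulAut.conj (k * c)).toMonoidHom with hB
    have hBS : ∀ b ∈ B, b ∈ K.img sylM := by
      rintro _ ⟨a, ha, rfl⟩
      have := hto _ (hc ⟨a, ha, rfl⟩)
      show k * c * a * (k * c)⁻¹ ∈ _
      rwa [show k * c * a * (k * c)⁻¹ = k * (c * a * c⁻¹) * k⁻¹ by group]
    have hBz : ∀ b ∈ B, b * z = z * b := fun b hb => by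
      obtain ⟨x, hx, rfl⟩ := (K.mem_img sylM_le).1 (hBS b hb)
      exact K.kg_comm (sylM_le hx)
    have hBcard : Nat.card B = 1024 := by
      rw [hB, Subgroup.card_map_of_injective (MulAut.conj (k * c)).injective, K.card_img signs_le,
        card_signs]
    have hprop : ∀ b ∈ B, b * b = 1 ∧ ∀ b' ∈ B, b * b' = b' * b := by
      rintro _ ⟨a, ha, rfl⟩
      obtain ⟨x, hx, rfl⟩ := (K.mem_img signs_le).1 ha
      refine ⟨?_, ?_⟩
      · rw [← map_mul, ← K.kg_mul (signs_le hx) (signs_le hx), signs_sq hx, K.kg_one, map_one]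
      · rintro _ ⟨a', ha', rfl⟩
        obtain ⟨y, hy, rfl⟩ := (K.mem_img signs_le).1 ha'
        rw [← map_mul, ← map_mul, ← K.kg_mul (signs_le hx) (signs_le hy),
          ← K.kg_mul (signs_le hy) (signs_le hx), signs_comm hx hy]
    have hle : B ≤ K.img signs := fun b hb => by
      obtain ⟨x, hx, rfl⟩ := (K.mem_img sylM_le).1 (hBS b hb)
      have hmem : ∀ {y}, y ∈ K.pre B → y ∈ sylM ∧ K.kg y ∈ B := fun {y} hy => by
        obtain ⟨hy1, hy2⟩ := K.mem_pre.1 hy
        obtain ⟨y', hy', e⟩ := (K.mem_img sylM_le).1 (hBS _ hy2)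
        rw [← K.kg_inj (sylM_le hy') hy1 e]
        exact ⟨hy', e ▸ hy2⟩
      obtain ⟨n, hn, hxn⟩ := eq_sign_of_elementary (K.pre B) (fun y hy => (hmem hy).1)
        (fun a ha a' ha' => K.kg_inj (mul_mem (K.mem_pre.1 ha).1 (K.mem_pre.1 ha').1)
          (mul_mem (K.mem_pre.1 ha').1 (K.mem_pre.1 ha).1) (by
          rw [K.kg_mul (K.mem_pre.1 ha).1 (K.mem_pre.1 ha').1,
            K.kg_mul (K.mem_pre.1 ha').1 (K.mem_pre.1 ha).1]
          exact (hprop _ (hmem ha).2).2 _ (hmem ha').2))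
        (fun a ha => K.kg_inj (mul_mem (K.mem_pre.1 ha).1 (K.mem_pre.1 ha).1) (one_mem _) (by
          rw [K.kg_mul (K.mem_pre.1 ha).1 (K.mem_pre.1 ha).1, K.kg_one]
          exact (hprop _ (hmem ha).2).1))
        (by rw [K.card_pre hBz, hBcard]) x (K.mem_pre.2 ⟨sylM_le hx, hb⟩)
      exact (K.mem_img signs_le).2 ⟨x, ⟨n, hn, hxn⟩, rfl⟩
    exact Subgroup.eq_of_le_of_card_ge hle (by rw [hBcard, K.card_img signs_le, card_signs])
  have e1 := key g h2
  have e2 := key 1 (by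
    rintro _ ⟨a, ha, rfl⟩
    show (1 : G) * a * (1 : G)⁻¹ ∈ T
    rw [one_mul, inv_one, mul_one]; exact h1 ha)
  rw [mul_one] at e2
  refine SetLike.ext fun a => ⟨fun ha => ?_, fun ha => ?_⟩
  · obtain ⟨b, hb, rfl⟩ := ha
    have hm : k * (g * b * g⁻¹) * k⁻¹ ∈ K.img signs := by
      rw [← e1]; exact ⟨b, hb, by show k * g * b * (k * g)⁻¹ = _; group⟩
    rw [← e2] at hm
    obtain ⟨c, hc, hce⟩ := hm
    change k * c * k⁻¹ = k * (g * b * g⁻¹) * k⁻¹ at hce
    show g * b * g⁻¹ ∈ K.img signs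
    rw [← mul_left_cancel (mul_right_cancel hce)]
    exact hc
  · have hm : k * a * k⁻¹ ∈ K.img signs := by
      rw [← e2]; exact ⟨a, ha, rfl⟩
    rw [← e1] at hm
    obtain ⟨b, hb, hbe⟩ := hm
    change k * g * b * (k * g)⁻¹ = k * a * k⁻¹ at hbe
    refine ⟨b, hb, ?_⟩
    show g * b * g⁻¹ = a
    calc g * b * g⁻¹ = k⁻¹ * (k * g * b * (k * g)⁻¹) * k := by group
      _ = a := by rw [hbe]; group

/-- Conjugate images of sign changes are conjugate in the normaliser of the signs. -/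
theorem exists_normalizer {a b : ℕ} (ha : a ∈ avMasks) (hb : b ∈ avMasks)
    (h : IsConj (K.kg (sgn a)) (K.kg (sgn b))) :
    ∃ g : G, g * K.kg (sgn a) * g⁻¹ = K.kg (sgn b) ∧
      ∀ v ∈ avMasks, ∃ w ∈ avMasks, g * K.kg (sgn v) * g⁻¹ = K.kg (sgn w) := by
  classical
  have : Fact (Nat.Prime 2) := ⟨Nat.prime_two⟩
  obtain ⟨g0, hg0⟩ := isConj_iff.1 h
  set H := Subgroup.centralizer ({K.kg (sgn b)} : Set G)
  set E := K.img signs
  set E' := E.map (MulAut.conj g0).toMonoidHom with hE'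
  have hcomm : ∀ x ∈ E, ∀ n, n ∈ avMasks → x * K.kg (sgn n) = K.kg (sgn n) * x := by
    intro x hx n hn
    obtain ⟨y, hy, rfl⟩ := (K.mem_img signs_le).1 hx
    rw [← K.kg_mul (signs_le hy) (sgn_C1 hn), ← K.kg_mul (sgn_C1 hn) (signs_le hy),
      signs_comm hy ⟨n, hn, rfl⟩]
  have hEH : E ≤ H := fun x hx => Subgroup.mem_centralizer_singleton_iff.2 (hcomm x hx b hb)
  have hE'H : E' ≤ H := by
    rintro _ ⟨x, hx, rfl⟩
    refine Subgroup.mem_centralizer_singleton_iff.2 ?_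
    show g0 * x * g0⁻¹ * _ = _ * (g0 * x * g0⁻¹)
    rw [← hg0]
    calc g0 * x * g0⁻¹ * (g0 * K.kg (sgn a) * g0⁻¹) = g0 * (x * K.kg (sgn a)) * g0⁻¹ := by group
      _ = g0 * (K.kg (sgn a) * x) * g0⁻¹ := by rw [hcomm x hx a ha]
      _ = _ := by group
  have p1 : IsPGroup 2 E :=
    IsPGroup.of_card (n := 10) (by rw [K.card_img signs_le, card_signs]; norm_num)
  have p2 : IsPGroup 2 E' := p1.map _
  obtain ⟨T1, hT1⟩ := (p1.of_equiv (Subgroup.subgroupOfEquivOfLe hEH).symm).exists_le_sylow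
  obtain ⟨T2, hT2⟩ := (p2.of_equiv (Subgroup.subgroupOfEquivOfLe hE'H).symm).exists_le_sylow
  obtain ⟨c, hc⟩ := MulAction.exists_smul_eq H T2 T1
  have key := K.signs_weakly_closed ((c : G) * g0) ((T1 : Subgroup H).map H.subtype)
    (T1.2.map _) (fun x hx => ⟨⟨x, hEH hx⟩, hT1 hx, rfl⟩) (by
      rintro _ ⟨x, hx, rfl⟩
      have hx' : g0 * x * g0⁻¹ ∈ H := hE'H ⟨x, hx, rfl⟩
      refine ⟨c * ⟨_, hx'⟩ * c⁻¹, ?_, ?_⟩
      · rw [SetLike.mem_coe, ← hc, Sylow.coe_subgroup_smul,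
          Subgroup.mem_pointwise_smul_iff_inv_smul_mem, MulAut.smul_def, ← map_inv,
          MulAut.conj_apply, inv_inv]
        have : (⟨_, hx'⟩ : H) ∈ (T2 : Subgroup H) := hT2 ⟨x, hx, rfl⟩
        convert this using 1
        group
      · show (c : G) * (g0 * x * g0⁻¹) * (c : G)⁻¹ = (c : G) * g0 * x * ((c : G) * g0)⁻¹
        group)
  refine ⟨(c : G) * g0, ?_, fun v hv => ?_⟩
  · calc (c : G) * g0 * K.kg (sgn a) * ((c : G) * g0)⁻¹
        = (c : G) * (g0 * K.kg (sgn a) * g0⁻¹) * (c : G)⁻¹ := by group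
      _ = K.kg (sgn b) := by
        rw [hg0, Subgroup.mem_centralizer_singleton_iff.1 c.2]; group
  · have hm : (c : G) * g0 * K.kg (sgn v) * ((c : G) * g0)⁻¹ ∈ E := by
      show _ ∈ K.img signs
      rw [← key]
      exact ⟨K.kg (sgn v), (K.mem_img signs_le).2 ⟨sgn v, ⟨v, hv, rfl⟩, rfl⟩, rfl⟩
    obtain ⟨y, ⟨w, hw, rfl⟩, e⟩ := (K.mem_img signs_le).1 hm
    exact ⟨w, hw, e.symm⟩

/-- The image of a sign change is conjugate to the involution. -/
def ZW (n : ℕ) : Prop := IsConj (K.kg (sgn n)) z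

omit [Finite G] in
theorem zw_of_conj {c x : K2} {n : ℕ} (hc : c ∈ C1) (hx : x ∈ C1) (hn : n ∈ avMasks)
    (h : x * c = c * sgn n) (hz : IsConj (K.kg x) z) : K.ZW n := by
  refine (isConj_iff.2 ⟨K.kg c, ?_⟩).trans hz
  rw [← K.kg_mul hc (sgn_C1 hn), ← h, K.kg_mul hx hc, mul_inv_cancel_right]

omit [Finite G] in
theorem sq_of_conj {x : K2} (hx : x ∈ C1) (h : IsConj (K.kg x) z) : x * x = 1 := by
  obtain ⟨g, hg⟩ := isConj_iff.1 h.symm
  have hzz : z * z = 1 := by
    have h' := K.kg_mul (sylM_le z0_sylM) (sylM_le z0_sylM)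
    rw [K.kg_z0] at h'
    rw [← h', show (z0 : K2) = sgn Data.zm from sgn_zm.symm, sgn_mul_self av_zm, K.kg_one]
  refine K.kg_inj (mul_mem hx hx) (one_mem _) ?_
  rw [K.kg_mul hx hx, K.kg_one, ← hg, show g * z * g⁻¹ * (g * z * g⁻¹) = g * (z * z) * g⁻¹ by group,
    hzz]
  group

omit [Finite G] in
/-- From an element of the other kind conjugate to the involution, an elementary group of order
sixteen of the Sylow subgroup whose translates are conjugate to the involution. -/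
theorem bad_group (hweak : K.Weak) {x y : K2} {g : G} (hy : y ∈ C1)
    (_hg : g * z * g⁻¹ = K.kg x) (hyg : K.kg y = g⁻¹ * z * g) (hB : Bad y) :
    ∃ R : Subgroup K2, R ≤ sylM ∧ Nat.card R = 16 ∧ (∀ a ∈ R, a * a = 1) ∧
      (∀ a ∈ R, a ∈ Q1 → a = 1) ∧ ∀ a ∈ R, IsConj (K.kg (z0 * a)) z := by
  obtain ⟨R, hR, hcard, -, hsq, hyR, hcon⟩ := hB
  have hRC : R ≤ C1 := hR.trans Q1_le
  set B := (K.img R).map (MulAut.conj g).toMonoidHom with hBd
  have hBz : ∀ b ∈ B, b * z = z * b := by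
    rintro _ ⟨a, ha, rfl⟩
    obtain ⟨r, hr, rfl⟩ := (K.mem_img hRC).1 ha
    show g * K.kg r * g⁻¹ * z = z * (g * K.kg r * g⁻¹)
    have e : K.kg r * K.kg y = K.kg y * K.kg r := by
      rw [← K.kg_mul (hRC hr) hy, ← K.kg_mul hy (hRC hr), hyR r hr]
    rw [hyg] at e
    calc g * K.kg r * g⁻¹ * z = g * (K.kg r * (g⁻¹ * z * g)) * g⁻¹ := by group
      _ = g * (g⁻¹ * z * g * K.kg r) * g⁻¹ := by rw [e]
      _ = _ := by group
  set R2 := K.pre B with hR2
  have hR2C : R2 ≤ C1 := fun a ha => (K.mem_pre.1 ha).1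
  have hprop : ∀ a ∈ R2, a * a = 1 ∧ IsConj (K.kg (z0 * a)) z := by
    intro a ha
    obtain ⟨haC, _, hb, hba⟩ := K.mem_pre.1 ha
    obtain ⟨r, hr, rfl⟩ := (K.mem_img hRC).1 hb
    change g * K.kg r * g⁻¹ = K.kg a at hba
    refine ⟨K.kg_inj (mul_mem haC haC) (one_mem _) ?_, ?_⟩
    · rw [K.kg_mul haC haC, K.kg_one, ← hba,
        show g * K.kg r * g⁻¹ * (g * K.kg r * g⁻¹) = g * (K.kg r * K.kg r) * g⁻¹ by group,
        ← K.kg_mul (hRC hr) (hRC hr), hsq r hr, K.kg_one]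
      group
    · obtain ⟨c, hc, hce⟩ := hcon r hr
      refine IsConj.symm (isConj_iff.2 ⟨g * K.kg c * g⁻¹, ?_⟩)
      rw [K.kg_mul (sylM_le z0_sylM) haC, K.kg_z0, ← hba]
      calc g * K.kg c * g⁻¹ * z * (g * K.kg c * g⁻¹)⁻¹
          = g * (K.kg c * (g⁻¹ * z * g) * (K.kg c)⁻¹) * g⁻¹ := by group
        _ = g * (g⁻¹ * z * g * K.kg r) * g⁻¹ := by
            rw [← hyg, ← K.kg_conj hc hy, hce, K.kg_mul hy (hRC hr)]
        _ = z * (g * K.kg r * g⁻¹) := by group
  have hcard2 : Nat.card R2 = 16 := by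
    rw [hR2, K.card_pre hBz, hBd, Subgroup.card_map_of_injective (MulAut.conj g).injective,
      K.card_img hRC, hcard]
  obtain ⟨k, hk, hin⟩ := conj_into_sylM R2 hR2C (isPGroup_of_sq _ fun a ha => (hprop a ha).1)
  refine ⟨R2.map (MulAut.conj k).toMonoidHom, ?_, ?_, ?_, ?_, ?_⟩
  · rintro _ ⟨a, ha, rfl⟩; exact hin a ha
  · rw [Subgroup.card_map_of_injective (MulAut.conj k).injective, hcard2]
  · rintro _ ⟨a, ha, rfl⟩
    rw [← map_mul, (hprop a ha).1, map_one]
  · rintro _ ⟨a, ha, rfl⟩ hq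
    have haQ : a ∈ Q1 := by
      have := Q1_conj (inv_mem hk) hq
      change k⁻¹ * (k * a * k⁻¹) * k⁻¹⁻¹ ∈ Q1 at this
      rwa [show k⁻¹ * (k * a * k⁻¹) * k⁻¹⁻¹ = a by group] at this
    have hza := mul_mem z0_Q1 haQ
    have e := hweak ⟨z0 * a, hza.1⟩ (Q1_le_pCore hza) (by
      rw [← K.kg_eq hza.1]; exact (hprop a ha).2)
    have : a = 1 := mul_eq_left.1 e
    rw [this, map_one]
  · rintro _ ⟨a, ha, rfl⟩
    refine IsConj.trans (IsConj.symm (isConj_iff.2 ⟨K.kg k, ?_⟩)) (hprop a ha).2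
    show _ = K.kg (z0 * (k * a * k⁻¹))
    rw [← K.kg_conj hk (mul_mem (sylM_le z0_sylM) (hR2C ha))]
    congr 1
    have := Subgroup.mem_centralizer_singleton_iff.1 hk
    calc k * (z0 * a) * k⁻¹ = k * z0 * a * k⁻¹ := by group
      _ = z0 * k * a * k⁻¹ := by rw [this]
      _ = _ := by group

omit [Finite G] in
/-- The partner of a conjugate of the involution in the centraliser. -/
theorem exists_partner {x : K2} (hx : x ∈ C1) (h : IsConj (K.kg x) z) :
    ∃ g : G, ∃ y, y ∈ C1 ∧ g * z * g⁻¹ = K.kg x ∧ K.kg y = g⁻¹ * z * g ∧ y * y = 1 := by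
  obtain ⟨g, hg⟩ := isConj_iff.1 h.symm
  have hc := K.kg_comm hx
  rw [← hg] at hc
  obtain ⟨y, hy, hye⟩ := K.exists_pre (a := g⁻¹ * z * g) (by
    calc g⁻¹ * z * g * z = g⁻¹ * (z * (g * z * g⁻¹)) * g := by group
      _ = g⁻¹ * (g * z * g⁻¹ * z) * g := by rw [hc]
      _ = _ := by group)
  refine ⟨g, y, hy, hg, hye, K.sq_of_conj hy ?_⟩
  rw [hye]
  exact isConj_iff.2 ⟨g, by group⟩

omit [Finite G] in
/-- If the partner is good then so is the conjugate. -/
theorem good_case {x y : K2} {g : G} (hx : x ∈ C1) (hy : y ∈ C1)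
    (hg : g * z * g⁻¹ = K.kg x) (hyg : K.kg y = g⁻¹ * z * g) (hG : Good y) :
    ∃ c ∈ C1, ∃ n ∈ avMasks, x * c = c * sgn n := by
  obtain ⟨c, hc, m, hm, hcm⟩ := hG
  set h := g * K.kg c
  set B := (K.img signs).map (MulAut.conj h).toMonoidHom with hB
  have hzB : z ∈ B := by
    refine ⟨K.kg (sgn m), (K.mem_img signs_le).2 ⟨_, ⟨m, hm, rfl⟩, rfl⟩, ?_⟩
    show g * K.kg c * K.kg (sgn m) * (g * K.kg c)⁻¹ = z
    rw [show g * K.kg c * K.kg (sgn m) * (g * K.kg c)⁻¹ =
      g * (K.kg c * K.kg (sgn m) * (K.kg c)⁻¹) * g⁻¹ by group, ← K.kg_mul hc (sgn_C1 hm), ← hcm,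
      K.kg_mul hy hc, mul_inv_cancel_right, hyg]
    group
  have hprop : ∀ b ∈ B, b * b = 1 ∧ ∀ b' ∈ B, b * b' = b' * b := by
    rintro _ ⟨a, ha, rfl⟩
    obtain ⟨p, hp, rfl⟩ := (K.mem_img signs_le).1 ha
    refine ⟨?_, ?_⟩
    · rw [← map_mul, ← K.kg_mul (signs_le hp) (signs_le hp), signs_sq hp, K.kg_one, map_one]
    · rintro _ ⟨a', ha', rfl⟩
      obtain ⟨q, hq, rfl⟩ := (K.mem_img signs_le).1 ha'
      rw [← map_mul, ← map_mul, ← K.kg_mul (signs_le hp) (signs_le hq),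
        ← K.kg_mul (signs_le hq) (signs_le hp), signs_comm hp hq]
  have hcard : Nat.card (K.pre B) = 1024 := by
    rw [K.card_pre fun b hb => (hprop b hb).2 z hzB, hB,
      Subgroup.card_map_of_injective (MulAut.conj h).injective, K.card_img signs_le, card_signs]
  have hxB : x ∈ K.pre B := by
    refine K.mem_pre.2 ⟨hx, z, ?_, ?_⟩
    · exact (K.mem_img signs_le).2 ⟨z0, ⟨Data.zm, base_facts.1.1, sgn_zm.symm⟩, K.kg_z0⟩
    · show g * K.kg c * z * (g * K.kg c)⁻¹ = K.kg x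
      rw [mul_assoc g (K.kg c) z, K.kg_comm hc, ← hg]
      group
  obtain ⟨k, hk, hin⟩ := conj_signs (K.pre B) (fun a ha => (K.mem_pre.1 ha).1)
    (fun a ha a' ha' => K.kg_inj (mul_mem (K.mem_pre.1 ha).1 (K.mem_pre.1 ha').1)
      (mul_mem (K.mem_pre.1 ha').1 (K.mem_pre.1 ha).1) (by
      rw [K.kg_mul (K.mem_pre.1 ha).1 (K.mem_pre.1 ha').1,
        K.kg_mul (K.mem_pre.1 ha').1 (K.mem_pre.1 ha).1]
      exact (hprop _ (K.mem_pre.1 ha).2).2 _ (K.mem_pre.1 ha').2))
    (fun a ha => K.kg_inj (mul_mem (K.mem_pre.1 ha).1 (K.mem_pre.1 ha).1) (one_mem _) (by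
      rw [K.kg_mul (K.mem_pre.1 ha).1 (K.mem_pre.1 ha).1, K.kg_one]
      exact (hprop _ (K.mem_pre.1 ha).2).1))
    hcard.ge
  obtain ⟨n, hn, he⟩ := hin x hxB
  exact ⟨k⁻¹, inv_mem hk, n, hn, by rw [← he]; group⟩

/-- A sign change other than the marked one has a conjugate image. -/
theorem exists_sign (hweak : K.Weak) (hout : K.HasOut) :
    ∃ n ∈ avMasks, n ≠ Data.zm ∧ K.ZW n := by
  obtain ⟨⟨x, hx⟩, hne, hconj⟩ := hout
  rw [← K.kg_eq hx] at hconj
  obtain ⟨g, y, hy, hg, hyg, hyy⟩ := K.exists_partner hx hconj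
  rcases C1_invol hy hyy with hG | hB
  · obtain ⟨c, hc, n, hn, e⟩ := K.good_case hx hy hg hyg hG
    refine ⟨n, hn, fun h => hne ?_, K.zw_of_conj hc hx hn e hconj⟩
    rw [h, sgn_zm] at e
    show x = z0
    refine mul_right_cancel (e.trans ?_)
    exact Subgroup.mem_centralizer_singleton_iff.1 hc
  obtain ⟨R, hR, hcard, hsq, hQ, hz'⟩ := K.bad_group hweak hy hg hyg hB
  by_contra hno
  push Not at hno
  refine no_pure R (hR.trans sylM_le) hcard hsq hQ fun a ha hane => ?_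
  rcases (sylM_invol (hR ha) (hsq a ha)).1 with ⟨c, hc, m, hm, e⟩ | ⟨-, h⟩
  · exfalso
    have hzm := avMasks_xor base_facts.1.1 hm
    refine hno _ hzm (fun h => hane ?_) (K.zw_of_conj hc
      (mul_mem (sylM_le z0_sylM) (sylM_le (hR ha))) hzm ?_ (hz' a ha))
    · have h0 : m = 0 := Nat.xor_right_inj.1 (h.trans (Nat.xor_zero _).symm)
      rw [h0, sgn_zero, mul_one] at e
      exact mul_eq_right.1 e
    · rw [← real_sgn_mul base_facts.1.1 hm, sgn_zm, mul_assoc, e, ← mul_assoc,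
        ← Subgroup.mem_centralizer_singleton_iff.1 hc, mul_assoc]
  · exact h

/-- The sign changes conjugate to the involution are those of weight sixteen. -/
theorem zw_iff (hweak : K.Weak) (hout : K.HasOut) :
    ∀ n ∈ avMasks, (K.ZW n ↔ pop n = 16) := by
  classical
  refine weight_sixteen K.ZW ?_ (K.exists_sign hweak hout) ?_ ?_ ?_
  · show IsConj _ z
    rw [sgn_zm, K.kg_z0]
  · intro n hn hP
    by_cases h : n &&& omask = 0
    · left
      have hQ : sgn n ∈ Q1 := by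
        have key := keyOne_sound (a := (0, n)) (okPair_of (by norm_num) hn) (by
          simp only [keyOne, CosetCert.force_eq, pk5]
          refine List.all_eq_true.2 fun j hj => ?_
          have hb : omask.testBit j = true := by revert j; decide
          have h0 : n.testBit j = false := by
            have := congrArg (fun m => m.testBit j) h
            simpa [Nat.testBit_and, hb] using this
          rw [← pP_getD (octL_lt j hj), p_lengths.2.2.1, range_getD (octL_lt j hj), Nat.beq_refl, h0]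
          rfl)
        simp only [el2, el_sgn] at key
        exact key
      have e := hweak ⟨sgn n, hQ.1⟩ (Q1_le_pCore hQ) (by rw [← K.kg_eq hQ.1]; exact hP)
      exact sgn_inj hn base_facts.1.1 (e.trans sgn_zm.symm)
    · exact Or.inr h
  · intro b hb n hn
    obtain ⟨hc, hall⟩ := oEl_spec hb
    obtain ⟨hm, he⟩ := hall n hn
    have hconj : IsConj (K.kg (sgn n)) (K.kg (sgn (pmask (oGenP b) n))) :=
      isConj_iff.2 ⟨K.kg (oEl b), by rw [← K.kg_conj hc (sgn_C1 hn), he]⟩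
    exact ⟨fun h => hconj.trans h, fun h => hconj.symm.trans h⟩
  · intro n hn hP
    obtain ⟨g, hg, hall⟩ := K.exists_normalizer base_facts.1.1 hn (by
      rw [sgn_zm, K.kg_z0]; exact hP.symm)
    let φ : ℕ → ℕ := fun v => if hv : v ∈ avMasks then (hall v hv).choose else 0
    have hφ : ∀ v ∈ avMasks, φ v ∈ avMasks ∧ g * K.kg (sgn v) * g⁻¹ = K.kg (sgn (φ v)) :=
      fun v hv => by simp only [φ, dif_pos hv]; exact (hall v hv).choose_spec
    have inj : ∀ a ∈ avMasks, ∀ b ∈ avMasks, K.kg (sgn a) = K.kg (sgn b) → a = b :=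
      fun a ha b hb e => sgn_inj ha hb (K.kg_inj (sgn_C1 ha) (sgn_C1 hb) e)
    refine ⟨φ, inj _ (hφ _ base_facts.1.1).1 _ hn ?_, fun u hu => ⟨(hφ u hu).1, ?_, fun v hv => ⟨?_, ?_⟩⟩⟩
    · rw [← (hφ _ base_facts.1.1).2, hg]
    · have hc : IsConj (K.kg (sgn u)) (K.kg (sgn (φ u))) := isConj_iff.2 ⟨g, (hφ u hu).2⟩
      exact ⟨fun h => hc.trans h, fun h => hc.symm.trans h⟩
    · refine inj _ (hφ _ (avMasks_xor hu hv)).1 _ (avMasks_xor (hφ u hu).1 (hφ v hv).1) ?_
      rw [← (hφ _ (avMasks_xor hu hv)).2, ← real_sgn_mul hu hv,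
        ← real_sgn_mul (hφ u hu).1 (hφ v hv).1, K.kg_mul (sgn_C1 hu) (sgn_C1 hv),
        K.kg_mul (sgn_C1 (hφ u hu).1) (sgn_C1 (hφ v hv).1), ← (hφ u hu).2, ← (hφ v hv).2]
      group
    · intro e
      refine inj u hu v hv ?_
      have h1 := (hφ u hu).2
      rw [e, ← (hφ v hv).2] at h1
      exact mul_left_cancel (mul_right_cancel h1)

/-- The hypothesis of fusion holds. -/
theorem hasFusion (hweak : K.Weak) (hout : K.HasOut) : K.HasFusion := by
  rintro ⟨x, hx⟩ hconj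
  rw [← K.kg_eq hx] at hconj
  show IsConj x z0
  obtain ⟨g, y, hy, hg, hyg, hyy⟩ := K.exists_partner hx hconj
  rcases C1_invol hy hyy with hG | hB
  · obtain ⟨c, hc, n, hn, e⟩ := K.good_case hx hy hg hyg hG
    have h16 := (K.zw_iff hweak hout n hn).1 (K.zw_of_conj hc hx hn e hconj)
    obtain ⟨p, -, hp⟩ := (conj_by_weight hn).1 h16
    rw [sgn_zm] at hp
    refine IsConj.trans ?_ (isConj_iff.2 ⟨p, hp⟩).symm
    exact isConj_iff.2 ⟨c⁻¹, by rw [inv_inv, mul_assoc, e, inv_mul_cancel_left]⟩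
  exfalso
  obtain ⟨R, hR, hcard, hsq, hQ, hz'⟩ := K.bad_group hweak hy hg hyg hB
  refine no_pure R (hR.trans sylM_le) hcard hsq hQ fun a ha hane => ?_
  obtain ⟨h1, h2⟩ := sylM_invol (hR ha) (hsq a ha)
  rcases h1 with ⟨c, hc, m, hm, e⟩ | ⟨-, h⟩
  · rcases h2 with h2 | h2 | h2
    · exact absurd (hQ a ha h2) hane
    · exfalso
      have hzm := avMasks_xor base_facts.1.1 hm
      have ha' := sylM_le (hR ha)
      have e2 : z0 * a * c = c * sgn (Data.zm ^^^ m) := by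
        rw [← real_sgn_mul base_facts.1.1 hm, sgn_zm, mul_assoc, e, ← mul_assoc,
          ← Subgroup.mem_centralizer_singleton_iff.1 hc, mul_assoc]
      have h16 := (K.zw_iff hweak hout _ hzm).1
        (K.zw_of_conj hc (mul_mem (sylM_le z0_sylM) ha') hzm e2 (hz' a ha))
      apply h2
      rw [show z0 * a = c * sgn (Data.zm ^^^ m) * c⁻¹ by rw [← e2, mul_inv_cancel_right], tr_conj]
      rcases av_trace hzm with ⟨e', e''⟩ | ⟨e', -⟩ | ⟨e', -⟩ | ⟨-, e'⟩
      · rw [h16] at e''; exact absurd e'' (by norm_num)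
      · rw [h16] at e'; exact absurd e' (by norm_num)
      · rw [h16] at e'; exact absurd e' (by norm_num)
      · exact e'
    · exact h2
  · exact h

omit [Finite G] in
theorem sg_kg {n : ℕ} (hn : n ∈ avMasks) : K.sg n = K.kg (sgn n) := by
  rw [sg, dif_pos (sgn_C1 hn), K.kg_eq (sgn_C1 hn)]

/-- A normaliser of the signs moves the involution. -/
theorem hasMover (hweak : K.Weak) (hout : K.HasOut) : K.HasMover := by
  obtain ⟨n, hn, hne, hP⟩ := K.exists_sign hweak hout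
  obtain ⟨g, hg, hall⟩ := K.exists_normalizer base_facts.1.1 hn (by
    rw [sgn_zm, K.kg_z0]; exact hP.symm)
  refine ⟨g, fun v hv => ?_, ?_⟩
  · obtain ⟨w, hw, e⟩ := hall v hv
    exact ⟨w, hw, by rw [K.sg_kg hv, K.sg_kg hw, e]⟩
  · intro h
    rw [sgn_zm, K.kg_z0, h] at hg
    refine hne (sgn_inj hn base_facts.1.1 ?_)
    rw [sgn_zm]
    exact K.kg_inj (sgn_C1 hn) (sylM_le z0_sylM) (hg.symm.trans K.kg_z0.symm)

/-- All sign changes of weight sixteen give conjugates. -/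
theorem hasFull (hweak : K.Weak) (hout : K.HasOut) :
    ∀ v ∈ avMasks, pop v = 16 → IsConj (K.sg v) z := fun v hv h => by
  rw [K.sg_kg hv]
  exact (K.zw_iff hweak hout v hv).2 h

end CentEmb

end Cfsg.Agent.CoTwoUniq
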