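import Cfsg.Agent.CoTwoUniq.Orbits
import Cfsg.Agent.CosetCert.Basic

/-!
Monomial elements of the second Conway group as codes: a preimage list of positions and a mask.
-/

set_option autoImplicit false

open Cfsg

namespace Cfsg.Agent.CoTwoUniq.Fus

open Cfsg.Agent.Leech (bitWord idx ptOf toL oct)

/-- A code: preimages of the twenty-four positions and the mask of the signs. -/
abbrev Code : Type := List ℕ × ℕ

/-- The action of a code on coordinate lists. -/
def cF (c : Code) (l : List ℤ) : List ℤ :=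
  (List.range 24).map fun j =>
    if c.2.testBit j then -(l.getD (c.1.getD j 0) 0) else l.getD (c.1.getD j 0) 0

/-- The well formed codes. -/
def OkC (c : Code) : Prop := c.1.length = 24 ∧ (∀ j < 24, c.1.getD j 0 < 24) ∧ c.2 < 2 ^ 24

/-- The composite of two codes. -/
def cmul (a b : Code) : Code :=
  ((List.range 24).map fun j => b.1.getD (a.1.getD j 0) 0, a.2 ^^^ pmask a.1 b.2)

/-- The identity code with signs. -/
def sC (n : ℕ) : Code := (List.range 24, n)

/-- The element acts as the code says. -/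
def Real (x : K2) (c : Code) : Prop :=
  ∀ v : leechLattice, toL ((inc x • v : leechLattice) : GolayPt → ℤ) = cF c (toL (v : GolayPt → ℤ))

theorem pmask_lt (P : List ℕ) (n : ℕ) : pmask P n < 2 ^ 24 := by
  have key : ∀ l : List ℕ, (∀ j ∈ l, j < 24) →
      l.foldr (fun i m => (if n.testBit (P.getD i 0) then 2 ^ i else 0) ||| m) 0 < 2 ^ 24 := by
    intro l
    induction l with
    | nil => intro _; norm_num
    | cons i t ih =>
      intro h
      rw [List.foldr_cons]
      refine Nat.or_lt_two_pow ?_ (ih fun j hj => h j (List.mem_cons_of_mem _ hj))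
      split_ifs
      · exact Nat.pow_lt_pow_right (by norm_num) (h i List.mem_cons_self)
      · norm_num
  exact key _ fun j hj => List.mem_range.1 hj

theorem okC_cmul {a b : Code} (ha : OkC a) (hb : OkC b) : OkC (cmul a b) := by
  refine ⟨by simp [cmul], fun j hj => ?_, Nat.xor_lt_two_pow ha.2.2 (pmask_lt _ _)⟩
  show ((List.range 24).map fun j => b.1.getD (a.1.getD j 0) 0).getD j 0 < 24
  rw [List.getD_eq_getElem _ _ (by simpa using hj)]
  simpa using hb.2.1 _ (ha.2.1 j hj)

theorem cF_length (c : Code) (l : List ℤ) : (cF c l).length = 24 := by simp [cF]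

theorem cF_getD (c : Code) (l : List ℤ) {j : ℕ} (hj : j < 24) :
    (cF c l).getD j 0 =
      if c.2.testBit j then -(l.getD (c.1.getD j 0) 0) else l.getD (c.1.getD j 0) 0 := by
  rw [List.getD_eq_getElem _ _ (by simpa [cF] using hj)]
  simp [cF]

theorem cF_cmul {a b : Code} (ha : OkC a) (l : List ℤ) : cF (cmul a b) l = cF a (cF b l) := by
  refine List.ext_getElem (by simp [cF]) fun j h1 h2 => ?_
  have hj : j < 24 := by simpa [cF] using h1
  rw [← List.getD_eq_getElem _ 0 h1, ← List.getD_eq_getElem _ 0 h2, cF_getD _ _ hj, cF_getD _ _ hj,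
    cF_getD _ _ (ha.2.1 j hj)]
  have hP : (cmul a b).1.getD j 0 = b.1.getD (a.1.getD j 0) 0 := by
    show ((List.range 24).map fun j => b.1.getD (a.1.getD j 0) 0).getD j 0 = _
    rw [List.getD_eq_getElem _ _ (by simpa using hj)]
    simp
  have hm : (cmul a b).2.testBit j = (a.2.testBit j != b.2.testBit (a.1.getD j 0)) := by
    show (a.2 ^^^ pmask a.1 b.2).testBit j = _
    rw [Nat.testBit_xor, testBit_pmask _ _ hj]
  rw [hP, hm]
  cases a.2.testBit j <;> cases b.2.testBit (a.1.getD j 0) <;> simp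

theorem Real.mul {x y : K2} {a b : Code} (hx : Real x a) (hy : Real y b) (ha : OkC a) :
    Real (x * y) (cmul a b) := fun v => by
  rw [map_mul, mul_smul, hx, hy, cF_cmul ha]

/-- A code determines the element. -/
theorem Real.unique {x y : K2} {c : Code} (hx : Real x c) (hy : Real y c) : x = y :=
  inc_injective (Leech.ext_of_oct fun i =>
    Subtype.ext (Leech.toL_injective ((hx (oct i)).trans (hy (oct i)).symm)))

theorem oct_getD (q j : ℕ) (hq : q < 24) (hj : j < 24) :
    (toL ((oct (ptOf q) : leechLattice) : GolayPt → ℤ)).getD j 0 = if j = q then 8 else 0 := by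
  rw [Leech.toL_getD _ _ hj]
  show (Pi.single (ptOf q) (8 : ℤ) : GolayPt → ℤ) (ptOf j) = _
  rw [Pi.single_apply]
  refine if_congr ⟨fun h => ?_, fun h => by rw [h]⟩ rfl rfl
  rw [← Leech.idx_ptOf j hj, ← Leech.idx_ptOf q hq, h]

/-- The element determines the code. -/
theorem Real.code_unique {x : K2} {a b : Code} (ha : Real x a) (hb : Real x b) (oa : OkC a)
    (ob : OkC b) : a = b := by
  have key : ∀ j, j < 24 → a.1.getD j 0 = b.1.getD j 0 ∧ a.2.testBit j = b.2.testBit j := by
    intro j hj
    have h := congrArg (fun l : List ℤ => l.getD j 0)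
      ((ha (oct (ptOf (a.1.getD j 0)))).symm.trans (hb (oct (ptOf (a.1.getD j 0)))))
    simp only [cF_getD _ _ hj] at h
    have pa := oa.2.1 j hj
    have pb := ob.2.1 j hj
    rw [oct_getD _ _ pa pa, oct_getD _ _ pa pb, if_pos rfl] at h
    by_cases e : b.1.getD j 0 = a.1.getD j 0
    · refine ⟨e.symm, ?_⟩
      rw [if_pos e] at h
      cases h1 : a.2.testBit j <;> cases h2 : b.2.testBit j <;> simp [h1, h2] at h ⊢
    · rw [if_neg e] at h
      cases h1 : a.2.testBit j <;> cases h2 : b.2.testBit j <;> simp [h1, h2] at h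
  refine Prod.ext (List.ext_getElem (oa.1.trans ob.1.symm) fun j h1 h2 => ?_)
    (Nat.eq_of_testBit_eq fun j => ?_)
  · rw [← List.getD_eq_getElem _ 0 h1, ← List.getD_eq_getElem _ 0 h2]
    exact (key j (oa.1 ▸ h1)).1
  · by_cases hj : j < 24
    · exact (key j hj).2
    · have hp : (2 : ℕ) ^ 24 ≤ 2 ^ j := Nat.pow_le_pow_right (by norm_num) (by omega)
      rw [Nat.testBit_lt_two_pow (oa.2.2.trans_le hp), Nat.testBit_lt_two_pow (ob.2.2.trans_le hp)]

theorem range_getD {j : ℕ} (hj : j < 24) : (List.range 24).getD j 0 = j := by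
  rw [List.getD_eq_getElem _ _ (by simpa using hj)]; simp

theorem okC_sC {n : ℕ} (hn : n < 2 ^ 24) : OkC (sC n) :=
  ⟨by simp [sC], fun j hj => by show (List.range 24).getD j 0 < 24; rw [range_getD hj]; exact hj, hn⟩

/-- A sign change by its code. -/
theorem real_sgn {n : ℕ} (hn : Av n) : Real (sgn n) (sC n) := by
  intro v
  refine List.ext_getElem (by simp [cF, toL]) fun j h1 h2 => ?_
  have hj : j < 24 := by simpa [toL] using h1
  rw [← List.getD_eq_getElem _ 0 h1, ← List.getD_eq_getElem _ 0 h2, cF_getD _ _ hj,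
    Leech.toL_getD _ _ hj, inc_sgn hn, Leech.signCo0_apply]
  show _ = if n.testBit j then -((toL _).getD ((List.range 24).getD j 0) 0) else
    (toL _).getD ((List.range 24).getD j 0) 0
  rw [range_getD hj, Leech.toL_getD _ _ hj]
  simp only [Leech.negOn, bitWord, Leech.idx_ptOf j hj]
  cases n.testBit j <;> simp

theorem real_one : Real 1 (sC 0) := by
  have := real_sgn (n := 0) (by decide +kernel)
  rwa [sgn_zero] at this

/-- A permutation fixing the pair by its code. -/
theorem real_pm {P Q : List ℕ} (h : PermOK P Q) (hP : ∀ i < 24, P.getD i 0 < 24) :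
    Real (pm h) (P, 0) := by
  intro v
  refine List.ext_getElem (by simp [cF, toL]) fun j h1 h2 => ?_
  have hj : j < 24 := by simpa [toL] using h1
  rw [← List.getD_eq_getElem _ 0 h1, ← List.getD_eq_getElem _ 0 h2, cF_getD _ _ hj,
    Leech.toL_getD _ _ hj, pm, inc_mk, Leech.permCo0_apply, Leech.toL_getD _ _ (hP j hj)]
  simp only [Nat.zero_testBit, Bool.false_eq_true, if_false]
  rw [show (perm h)⁻¹ (ptOf j) = ptOf (P.getD (idx (ptOf j)) 0) from rfl, Leech.idx_ptOf j hj]

/-- A product of elements from a list. -/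
def gword {α : Type*} [Inhabited α] (l : List α) (w : List ℕ) : List α := w.map fun i => l.getD i default

theorem Real.prod : ∀ (l : List (K2 × Code)), (∀ p ∈ l, Real p.1 p.2 ∧ OkC p.2) →
    Real (l.map Prod.fst).prod ((l.map Prod.snd).foldr cmul (sC 0)) ∧
      OkC ((l.map Prod.snd).foldr cmul (sC 0))
  | [], _ => ⟨by simpa using real_one, okC_sC (by norm_num)⟩
  | p :: t, h => by
    obtain ⟨h1, h2⟩ := Real.prod t fun q hq => h q (List.mem_cons_of_mem _ hq)
    obtain ⟨p1, p2⟩ := h p List.mem_cons_self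
    rw [List.map_cons, List.map_cons, List.prod_cons, List.foldr_cons]
    exact ⟨p1.mul h1 p2, okC_cmul p2 h2⟩

theorem avMasks_lt {n : ℕ} (hn : n ∈ avMasks) : n < 2 ^ 24 := by
  have h : (avMasks.all fun n => Nat.blt n (2 ^ 24)) = true := by decide +kernel
  exact Nat.ble_eq.mp (List.all_eq_true.1 h n hn)

theorem okC_av {n : ℕ} (hn : n ∈ avMasks) : OkC (sC n) := okC_sC (avMasks_lt hn)

theorem real_av {n : ℕ} (hn : n ∈ avMasks) : Real (sgn n) (sC n) := real_sgn (avMasks_spec n hn)

theorem sgn_inj {m n : ℕ} (hm : m ∈ avMasks) (hn : n ∈ avMasks) (h : sgn m = sgn n) : m = n :=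
  congrArg Prod.snd ((h ▸ real_av hm : Real (sgn n) (sC m)).code_unique (real_av hn) (okC_av hm)
    (okC_av hn))

theorem avMasks_xor {m n : ℕ} (hm : m ∈ avMasks) (hn : n ∈ avMasks) : m ^^^ n ∈ avMasks := by
  have hav := av_add (avMasks_spec m hm) (avMasks_spec n hn)
  obtain ⟨k, hk, -, he⟩ := exists_sgn (sgn (m ^^^ n)) (inc_sgn hav)
  have h1 := real_sgn hav
  rw [he] at h1
  have h2 := congrArg Prod.snd (h1.code_unique (real_av hk)
    (okC_sC (Nat.xor_lt_two_pow (avMasks_lt hm) (avMasks_lt hn))) (okC_av hk))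
  exact (show m ^^^ n = k from h2) ▸ hk

/-- A monomial element permutes the masks as its code says. -/
theorem pmask_mem {x : K2} {P : List ℕ} (hx : Real x (P, 0)) (hP : OkC (P, 0)) (hm : x ∈ monoK)
    {n : ℕ} (hn : n ∈ avMasks) :
    pmask P n ∈ avMasks ∧ x * sgn n * x⁻¹ = sgn (pmask P n) := by
  obtain ⟨m, hm', -, he⟩ := mono_conj_sgn hm hn
  have e : x * sgn n = sgn m * x := by rw [← he, inv_mul_cancel_right]
  have h1 := hx.mul (real_av hn) hP
  rw [e] at h1
  have h2 := congrArg Prod.snd (h1.code_unique ((real_av hm').mul hx (okC_av hm'))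
    (okC_cmul hP (okC_av hn)) (okC_cmul (okC_av hm') hP))
  simp only [cmul, sC, Nat.zero_xor] at h2
  rw [show pmask (List.range 24) 0 = 0 by decide +kernel, Nat.xor_zero] at h2
  subst h2
  exact ⟨hm', he⟩

/-- Equality of lists of numbers, evaluated quickly. -/
noncomputable def eqL : List ℕ → List ℕ → Bool
  | [], [] => true
  | a :: s, b :: t => Nat.beq a b && eqL s t
  | _, _ => false

theorem eq_of_eqL : ∀ {s t : List ℕ}, eqL s t = true → s = t
  | [], [], _ => rfl
  | a :: s, b :: t, h => by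
    rw [eqL, Bool.and_eq_true] at h
    rw [Nat.eq_of_beq_eq_true h.1, eq_of_eqL h.2]
  | [], _ :: _, h => Bool.noConfusion h
  | _ :: _, [], h => Bool.noConfusion h

/-- Equality of codes. -/
noncomputable def eqC (a b : Code) : Bool := eqL a.1 b.1 && Nat.beq a.2 b.2

theorem eq_of_eqC {a b : Code} (h : eqC a b = true) : a = b := by
  rw [eqC, Bool.and_eq_true] at h
  exact Prod.ext (eq_of_eqL h.1) (Nat.eq_of_beq_eq_true h.2)

/-- All entries differ. -/
noncomputable def diffL : List ℕ → Bool
  | [] => true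
  | a :: t => !(t.any fun b => Nat.beq a b) && diffL t

theorem nodup_of_diffL : ∀ {l : List ℕ}, diffL l = true → l.Nodup
  | [], _ => List.nodup_nil
  | a :: t, h => by
    rw [diffL, Bool.and_eq_true, Bool.not_eq_true'] at h
    refine List.nodup_cons.2 ⟨fun hm => ?_, nodup_of_diffL h.2⟩
    have := List.any_eq_false.1 h.1 a hm
    simp at this

theorem all_range {f : ℕ → Bool} {n : ℕ} (h : ((List.range n).all f) = true) {i : ℕ} (hi : i < n) :
    f i = true := List.all_eq_true.1 h i (List.mem_range.2 hi)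

theorem pmask_zero (P : List ℕ) : pmask P 0 = 0 := by
  refine Nat.eq_of_testBit_eq fun j => ?_
  by_cases hj : j < 24
  · rw [testBit_pmask P 0 hj, Nat.zero_testBit, Nat.zero_testBit]
  · rw [Nat.zero_testBit, Nat.testBit_lt_two_pow
      ((pmask_lt P 0).trans_le (Nat.pow_le_pow_right (by norm_num) (by omega)))]

end Cfsg.Agent.CoTwoUniq.Fus
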