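import Cfsg.Agent.CoTwoUniq.Fusion.Invol

/-!
The property of the representatives holds for all involutions of the Sylow subgroup, and no
elementary group of order sixteen avoiding the radical has all its keys listed.
-/

set_option autoImplicit false
set_option maxRecDepth 100000
set_option maxHeartbeats 1000000

open Cfsg

namespace Cfsg.Agent.CoTwoUniq.Fus

open Cfsg.Agent.Leech (spanList)
open Cfsg.Agent.Leech.CentTwo (octL)
open CosetCert (force force_eq)

theorem memE_complete : (avMasks.all memE) = true := by decide +kernel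

theorem okPair_of {i n : ℕ} (hi : i < 256) (hn : n ∈ avMasks) : okPair (i, n) = true := by
  rw [okPair, Bool.and_eq_true]
  exact ⟨Nat.ble_eq.mpr hi, List.all_eq_true.1 memE_complete n hn⟩

theorem keySetF_sound : ∀ (l : List ℕ) (acc j : ℕ), (keySetF l acc).testBit j = true →
    acc.testBit j = true ∨ ∃ n ∈ l, n % 4096 = j
  | [], acc, j, h => Or.inl h
  | a :: t, acc, j, h => by
    rw [keySetF, force_eq] at h
    rcases keySetF_sound t _ j h with h | ⟨n, hn, e⟩
    · rw [Nat.testBit_or, Bool.or_eq_true, Nat.testBit_two_pow, decide_eq_true_eq] at h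
      exact h.imp id fun e => ⟨a, List.mem_cons_self, e⟩
    · exact Or.inr ⟨n, List.mem_cons_of_mem _ hn, e⟩

theorem rep_prop {r m : ℕ} (hm : m ∈ repsOf r) : InvProp (el2 (FusData.reps0.getD r 0, m)) := by
  rw [repsOf, List.mem_append] at hm
  rcases hm with hm | hm
  · obtain ⟨e, he, rfl⟩ := List.mem_map.1 hm
    obtain ⟨he, her⟩ := List.mem_filter.1 he
    obtain ⟨q, hq, rfl⟩ := List.getElem_of_mem he
    have := repG_prop (q := q) (repG_length.1 ▸ hq)
    rw [List.getD_eq_getElem _ _ hq] at this
    rwa [← Nat.eq_of_beq_eq_true her]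
  · obtain ⟨e, he, rfl⟩ := List.mem_map.1 hm
    obtain ⟨he, her⟩ := List.mem_filter.1 he
    have := repB_prop he
    rwa [← Nat.eq_of_beq_eq_true her]

theorem id_code_mask {P : List ℕ} {n : ℕ} (hP : OkC (P, n)) {x : K2} (hx : Real x (P, n))
    (h2 : x * x = 1) : pmask P n = n ∧ ∀ j, j < 24 → P.getD (P.getD j 0) 0 = j := by
  have h := hx.mul hx hP
  rw [h2] at h
  have e := h.code_unique real_one (okC_cmul hP hP) (okC_sC (by norm_num))
  refine ⟨?_, fun j hj => ?_⟩
  · have := congrArg Prod.snd e
    simp only [cmul, sC] at this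
    exact (Nat.xor_right_inj.1 (this.trans (Nat.xor_self n).symm) :)
  · have := congrArg (fun c : Code => c.1.getD j 0) e
    simp only [cmul_fst hj, sC, range_getD hj] at this
    exact this

/-- Every involution of the Sylow subgroup has the property. -/
theorem sylM_invol {x : K2} (hx : x ∈ sylM) (h2 : x * x = 1) : InvProp x := by
  classical
  obtain ⟨i, hi, n, hn, rfl⟩ := hx
  by_cases h0 : i = 0
  · subst h0
    refine ⟨Or.inl ⟨1, one_mem C1, n, hn, by rw [el_sgn]; group⟩, ?_⟩
    have h := List.all_eq_true.1 signKey_chk n hn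
    simp only [signKeyOK, Bool.or_eq_true, Bool.not_eq_true'] at h
    rcases h with (h | h) | h
    · have key : keyOne (0, n) = true → el 0 n ∈ Q1 := fun h' => by
        have h'' := keyOne_sound (a := (0, n)) (okPair_of hi hn) h'
        simpa only [el2] using h''
      refine Or.inl (key ?_)
      simp only [keyOne, force_eq, pk5]
      refine List.all_eq_true.2 fun j hj => ?_
      rw [← pP_getD (octL_lt j hj), p_lengths.2.2.1, range_getD (octL_lt j hj), Nat.beq_refl,
        Bool.true_and]
      simpa using List.all_eq_true.1 h j hj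
    · refine Or.inr (Or.inl fun e => ?_)
      rw [el_sgn, show (z0 : K2) = sgn Data.zm from sgn_zm.symm, real_sgn_mul base_facts.1.1 hn,
        Nat.xor_comm] at e
      rcases av_trace (avMasks_xor hn base_facts.1.1) with ⟨e', -⟩ | ⟨-, e'⟩ | ⟨-, e'⟩ | ⟨e', -⟩
      · rw [e', sgn_zero] at e
        have ht : tr (1 : K2) = trCode (sC 0) := tr_real real_one (okC_sC (by norm_num))
        rw [ht] at e
        revert e
        decide +kernel
      · rw [e'] at e; exact absurd e (by decide)
      · rw [e'] at e; exact absurd e (by decide)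
      · rw [e', Nat.beq_refl] at h; cases h
    · have h'' := inKeys_sound (a := (0, n)) (okPair_of hi hn) h
      simp only [el2] at h''
      exact Or.inr (Or.inr h'')
  obtain ⟨r, o⟩ := el_spec hi hn
  obtain ⟨hfix, hP2⟩ := id_code_mask o r h2
  have hI := all_range inv_chk.1 hi
  simp only [invOK, force_eq, Bool.or_eq_true, Bool.not_eq_true', List.any_eq_true] at hI
  have hinv : ∃ c, c < 71 ∧ i = FusData.invI.getD c 0 := by
    rcases hI with (h | h) | ⟨k, hk, hke⟩
    · exact absurd (Nat.eq_of_beq_eq_true h) h0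
    · rw [List.all_eq_false] at h
      obtain ⟨j, hj, hne⟩ := h
      rw [List.mem_range] at hj
      refine absurd ?_ hne
      have := hP2 j hj
      rw [pP_getD hj, pP_getD (j := fld (FusData.pL.getD i 0) j) (pP_lt hi hj)] at this
      rw [this]
      exact Nat.beq_refl j
    · obtain ⟨c, hc, rfl⟩ := List.getElem_of_mem hk
      exact ⟨c, inv_chk.2.2 ▸ hc, by
        rw [List.getD_eq_getElem _ _ hc]; exact (Nat.eq_of_beq_eq_true hke).symm⟩
  obtain ⟨c, hc, hic⟩ := hinv
  have hcls := all_range cls_chk hc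
  simp only [clsOK, force_eq, Bool.and_eq_true] at hcls
  obtain ⟨⟨hk, hr⟩, hmul⟩ := hcls
  set k := (FusData.clsI.getD c (0, 0)).1
  set q := (FusData.clsI.getD c (0, 0)).2
  replace hk : k < 256 := Nat.ble_eq.mp hk
  replace hr : q < 15 := Nat.ble_eq.mp hr
  have hcov : covOK q = true := by
    rcases Nat.lt_or_ge q 5 with h | h
    · exact all_range cov_0 h
    rcases Nat.lt_or_ge q 10 with h' | h'
    · have := all_range cov_1 (show q - 5 < 5 by omega)
      rwa [Nat.sub_add_cancel h] at this
    · have := all_range cov_2 (show q - 10 < 5 by omega)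
      rwa [Nat.sub_add_cancel h'] at this
  simp only [covOK, force_eq, Bool.and_eq_true] at hcov
  set i0 := FusData.reps0.getD q 0
  obtain ⟨⟨hi0, -⟩, hall⟩ := hcov
  replace hi0 : i0 < 256 := Nat.ble_eq.mp hi0
  have hperm : elP k * elP i = elP i0 * elP k := by
    have := mulEq_sound (okPair_of hk mask_zero) (okPair_of (hic ▸ hi) mask_zero)
      (okPair_of hi0 mask_zero) (okPair_of hk mask_zero) hmul
    simp only [el2, el, sgn_zero, one_mul] at this
    rwa [← hic] at this
  obtain ⟨rk, ok, hKk⟩ := elP_spec hk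
  obtain ⟨hn', hconj⟩ := pmask_mem rk ok hKk hn
  set n' := pmask (pP k) n
  have hy : elP k * el i n * (elP k)⁻¹ = el i0 n' := by
    calc elP k * el i n * (elP k)⁻¹ = elP k * sgn n * (elP k)⁻¹ * (elP k * elP i * (elP k)⁻¹) := by
          rw [el]; group
      _ = el i0 n' := by rw [hconj, hperm, mul_inv_cancel_right, el]
  have hy2 : el i0 n' * el i0 n' = 1 := by
    rw [← hy]
    calc elP k * el i n * (elP k)⁻¹ * (elP k * el i n * (elP k)⁻¹)
        = elP k * (el i n * el i n) * (elP k)⁻¹ := by group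
      _ = 1 := by rw [h2]; group
  obtain ⟨r0, o0⟩ := el_spec hi0 hn'
  obtain ⟨hfix0, -⟩ := id_code_mask o0 r0 hy2
  have hlin : ∀ l : List ℕ, spanList (l.map fun e => e ^^^ pmask (pP i0) e) =
      (spanList l).map fun e => e ^^^ pmask (pP i0) e := by
    intro l
    induction l with
    | nil => simp [spanList, pmask_zero]
    | cons a t ih =>
      simp only [List.map_cons, spanList, ih, List.map_append, List.map_map]
      congr 1
      refine List.map_congr_left fun y _ => ?_
      simp [pmask_xor, Nat.xor_assoc, Nat.xor_left_comm]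
  have hpos : eL.idxOf n' < 1024 := eL_facts.1 ▸ List.idxOf_lt_length_of_mem (mem_eL.2 hn')
  have hbit : (fixR (List.zipWith (· ^^^ ·) FusData.eB (FusData.eB.map (pmask (pP i0)))) 0).testBit
      (eL.idxOf n') = true := by
    have h := fixR_eq FusData.eB (FusData.eB.map (pmask (pP i0))) (by simp) 0 0
    simp only [Nat.xor_self, Nat.zero_xor, List.map_id'] at h
    have hl : eL.idxOf n' < eL.length := List.idxOf_lt_length_of_mem (mem_eL.2 hn')
    rw [h, show spanList (FusData.eB.map (pmask (pP i0))) = imL (pP i0) from rfl, imL_eq,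
      show spanList FusData.eB = eL from rfl, testBit_bitsOf,
      List.getD_eq_getElem _ _ (by simpa using hl)]
    simp only [List.getElem_zipWith, List.getElem_map, List.getElem_idxOf]
    rw [hfix0]
    exact Nat.beq_refl n'
  have hc' := all_range hall hpos
  rw [hbit] at hc'
  simp only [Bool.not_true, Bool.false_or, List.any_eq_true] at hc'
  obtain ⟨m, hm, hmk⟩ := hc'
  rw [List.getD_eq_getElem _ _ (List.idxOf_lt_length_of_mem (mem_eL.2 hn')),
    List.getElem_idxOf] at hmk
  have hrep := rep_prop hm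
  have hm' : m ∈ avMasks := by
    rw [repsOf, List.mem_append] at hm
    have hG : (FusData.repG.all fun e => memE e.2.1) = true := by decide +kernel
    have hB : (FusData.repB.all fun e => memE e.2.1) = true := by decide +kernel
    rcases hm with hm | hm <;> obtain ⟨e, he, rfl⟩ := List.mem_map.1 hm <;>
      have he' := (List.mem_filter.1 he).1
    · exact memE_sound (List.all_eq_true.1 hG e he')
    · exact memE_sound (List.all_eq_true.1 hB e he')
  rcases keySetF_sound _ _ _ hmk with h | ⟨d, hd, hde⟩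
  · rw [Nat.zero_testBit] at h; cases h
  rw [hlin] at hd
  obtain ⟨f, hf, rfl⟩ := List.mem_map.1 hd
  replace hf : f ∈ avMasks := mem_eL.1 hf
  obtain ⟨r0', o0', hK0⟩ := elP_spec hi0
  obtain ⟨hpf, hcf⟩ := pmask_mem r0' o0' hK0 hf
  have hd' : f ^^^ pmask (pP i0) f ∈ avMasks := avMasks_xor hf hpf
  have e : n' ^^^ m = f ^^^ pmask (pP i0) f := sgn_inj (avMasks_xor hn' hm') hd'
    (sgn_eq_of_mod (avMasks_spec _ (avMasks_xor hn' hm')) (avMasks_spec _ hd') hde.symm)
  have hs : sgn f * el i0 m * (sgn f)⁻¹ = el i0 n' := by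
    have hinv : (sgn f)⁻¹ = sgn f := inv_eq_of_mul_eq_one_right (sgn_mul_self (avMasks_spec f hf))
    rw [hinv, el, el, show sgn f * (sgn m * elP i0) * sgn f =
      sgn f * sgn m * (elP i0 * sgn f * (elP i0)⁻¹) * elP i0 by group, hcf, real_sgn_mul hf hm',
      real_sgn_mul (avMasks_xor hf hm') hpf]
    congr 2
    calc f ^^^ m ^^^ pmask (pP i0) f = m ^^^ (f ^^^ pmask (pP i0) f) := by
          rw [Nat.xor_comm f m, Nat.xor_assoc]
      _ = n' := by rw [← e, Nat.xor_comm n' m, ← Nat.xor_assoc, Nat.xor_self, Nat.zero_xor]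
  have hfin := (hrep.conj (el_mem (show (0 : ℕ) < 256 by norm_num) hf))
  rw [el2, el_sgn, hs, ← hy] at hfin
  have hk' : (elP k)⁻¹ ∈ sylM := inv_mem (by
    have := el_mem hk mask_zero
    rwa [el, sgn_zero, one_mul] at this)
  have := hfin.conj hk'
  rwa [show (elP k)⁻¹ * (elP k * el i n * (elP k)⁻¹) * (elP k)⁻¹⁻¹ = el i n by group] at this

theorem octL_knum (p q n m : ℕ) (hp : ∀ j ∈ octL, fld p j = fld q j)
    (hn : ∀ j ∈ octL, n.testBit j = m.testBit j) : knum p n = knum q m := by
  unfold knum
  have key : ∀ l : List ℕ, (∀ j ∈ l, j ∈ octL) →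
      l.foldr (fun j acc => (fld p j * 2 + if n.testBit j then 1 else 0) + 64 * acc) 0 =
      l.foldr (fun j acc => (fld q j * 2 + if m.testBit j then 1 else 0) + 64 * acc) 0 := by
    intro l
    induction l with
    | nil => exact fun _ => rfl
    | cons a t ih =>
      intro hl
      rw [List.foldr_cons, List.foldr_cons, ih fun j hj => hl j (List.mem_cons_of_mem _ hj),
        hp a (hl a List.mem_cons_self), hn a (hl a List.mem_cons_self)]
  exact key _ fun j hj => hj

theorem khash_mem {u : ℕ} (hu : u < 102) : khash.testBit (knums.getD u 0 % 8191) = true := by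
  have hl : u < knums.length := by simpa [knums, knums_diff.2] using hu
  have key : ∀ l : List ℕ, ∀ w ∈ l,
      (l.foldr (fun k acc => acc ||| 2 ^ (k % 8191)) 0).testBit (w % 8191) = true := by
    intro l
    induction l with
    | nil => exact fun w hw => absurd hw List.not_mem_nil
    | cons a t ih =>
      intro w hw
      rw [List.foldr_cons, Nat.testBit_or, Bool.or_eq_true, Nat.testBit_two_pow, decide_eq_true_eq]
      rcases List.mem_cons.1 hw with rfl | hw
      · exact Or.inr rfl
      · exact Or.inl (ih w hw)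
  rw [List.getD_eq_getElem _ _ hl]
  exact key _ _ (List.getElem_mem hl)

/-- The key of a product is the tabulated one. -/
theorem kT_sound {i j u : ℕ} (hi : i < 102) (hj : j < 102) (hu : u < 102) (hij : i ≠ j)
    (h : EqO (el2 (FusData.kRep.getD i (0, 0)) * el2 (FusData.kRep.getD j (0, 0)))
      (el2 (FusData.kRep.getD u (0, 0)))) : kT i j = u := by
  obtain ⟨ra, oa, sa⟩ := el2_spec (kRep_ok hi)
  obtain ⟨rb, ob, sb⟩ := el2_spec (kRep_ok hj)
  obtain ⟨ru, ou, su⟩ := el2_spec (kRep_ok hu)
  have hk := key_of_eqO (ra.mul rb oa) ru (mul_mem (sylM_le sa) (sylM_le sb)) (okC_cmul oa ob) ou h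
  have htab : kTabOK i = true := by
    rcases Nat.lt_or_ge i 34 with h | h
    · exact all_range kTab_0 h
    rcases Nat.lt_or_ge i 68 with h' | h'
    · have := all_range kTab_1 (show i - 34 < 34 by omega)
      rwa [Nat.sub_add_cancel h] at this
    · have := all_range kTab_2 (show i - 68 < 34 by omega)
      rwa [Nat.sub_add_cancel h'] at this
  simp only [kTabOK, force_eq] at htab
  have ht := all_range htab hj
  rw [show Nat.beq i j = false from eq_false_of_ne_true fun e => hij (Nat.eq_of_beq_eq_true e),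
    Bool.false_or] at ht
  set a := FusData.kRep.getD i (0, 0)
  set b := FusData.kRep.getD j (0, 0)
  have hnum : knum2 (pk5 a.1) a.2 (pk5 b.1) b.2 = knums.getD u 0 := by
    have hl : u < FusData.kRep.length := knums_diff.2 ▸ hu
    rw [List.getD_eq_getElem _ _ (by simpa [knums] using hl)]
    simp only [knums, List.getElem_map, ← List.getD_eq_getElem _ (0, 0) hl]
    unfold knum2 knum
    have key : ∀ l : List ℕ, (∀ x ∈ l, x ∈ octL) →
        l.foldr (fun x acc => (fld (pk5 b.1) (fld (pk5 a.1) x) * 2 +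
          if a.2.testBit x != b.2.testBit (fld (pk5 a.1) x) then 1 else 0) + 64 * acc) 0 =
        l.foldr (fun x acc => (fld (pk5 (FusData.kRep.getD u (0, 0)).1) x * 2 +
          if (FusData.kRep.getD u (0, 0)).2.testBit x then 1 else 0) + 64 * acc) 0 := by
      intro l
      induction l with
      | nil => exact fun _ => rfl
      | cons x t ih =>
        intro hl'
        have hx := octL_lt x (hl' x List.mem_cons_self)
        have h8 := List.all_eq_true.1 hk x (hl' x List.mem_cons_self)
        rw [Bool.and_eq_true, beq_iff_eq] at h8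
        have e1 := Nat.eq_of_beq_eq_true h8.1
        simp only [cmul_fst hx, cd, pP_getD hx] at e1
        rw [pP_getD (j := fld (FusData.pL.getD a.1 0) x)
          (pP_lt (okPair_spec (kRep_ok hi)).1 hx)] at e1
        have e2 := h8.2
        simp only [cmul_snd hx, cd, pP_getD hx] at e2
        rw [List.foldr_cons, List.foldr_cons, ih fun y hy => hl' y (List.mem_cons_of_mem _ hy)]
        simp only [pk5, e1, e2]
    exact key _ fun x hx => hx
  rw [hnum] at ht
  split_ifs at ht with h102
  · have hlt : FusData.kTab.getD i 0 / 2 ^ (7 * j) % 2 ^ 7 < 102 := Nat.ble_eq.mp h102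
    have e := Nat.eq_of_beq_eq_true ht
    have hlu : u < knums.length := by simpa [knums, knums_diff.2] using hu
    have hlt' : FusData.kTab.getD i 0 / 2 ^ (7 * j) % 2 ^ 7 < knums.length := by
      simpa [knums, knums_diff.2] using hlt
    rw [List.getD_eq_getElem _ _ hlu, List.getD_eq_getElem _ _ hlt'] at e
    exact ((List.Nodup.getElem_inj_iff (nodup_of_diffL knums_diff.1)).1 e).symm
  · rw [khash_mem hu] at ht
    cases ht

/-- No elementary group of order sixteen avoiding the radical has all keys listed. -/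
theorem no_pure (R : Subgroup K2) (hR : R ≤ C1) (hcard : Nat.card R = 16)
    (h2 : ∀ a ∈ R, a * a = 1) (hQ : ∀ a ∈ R, a ∈ Q1 → a = 1) (hAB : ∀ a ∈ R, a ≠ 1 → AB a) :
    False := by
  classical
  have : Finite K2 := co2_finite
  let S : Finset K2 := (R : Set K2).toFinite.toFinset.erase 1
  have hS : ∀ {a}, a ∈ S ↔ a ≠ 1 ∧ a ∈ R := fun {a} => by simp [S]
  have hScard : S.card = 15 := by
    have h1 : (1 : K2) ∈ (R : Set K2).toFinite.toFinset := by simp
    rw [Finset.card_erase_of_mem h1, ← Set.ncard_eq_toFinset_card, ← Nat.card_coe_set_eq]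
    show Nat.card R - 1 = 15
    rw [hcard]
  let f : K2 → ℕ := fun a => if h : AB a then h.choose else 0
  have hf : ∀ a ∈ S, f a < 102 ∧ EqO a (el2 (FusData.kRep.getD (f a) (0, 0))) := fun a ha => by
    have h := hAB a (hS.1 ha).2 (hS.1 ha).1
    simp only [f, dif_pos h]
    exact h.choose_spec
  have hmul : ∀ a ∈ S, ∀ b ∈ S, a ≠ b → a * b ∈ S := fun a ha b hb hab => by
    refine hS.2 ⟨fun e => hab ?_, R.mul_mem (hS.1 ha).2 (hS.1 hb).2⟩
    calc a = a * b * b := by rw [mul_assoc, h2 b (hS.1 hb).2, mul_one]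
      _ = b := by rw [e, one_mul]
  have hinj : ∀ a ∈ S, ∀ b ∈ S, f a = f b → a = b := by
    intro a ha b hb e
    by_contra hab
    obtain ⟨hlt, h1⟩ := hf a ha
    obtain ⟨-, h3⟩ := hf b hb
    have h := (h1.trans (e ▸ h3.symm)).mul (EqO.refl b) (hR (hS.1 hb).2)
    rw [h2 b (hS.1 hb).2] at h
    have hab' := hmul a ha b hb hab
    exact (hS.1 hab').1 (hQ _ (hS.1 hab').2 ⟨hR (hS.1 hab').2, h⟩)
  have hT : ∀ a ∈ S, ∀ b ∈ S, a ≠ b → kT (f a) (f b) = f (a * b) := fun a ha b hb hab => by
    obtain ⟨la, ea⟩ := hf a ha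
    obtain ⟨lb, eb⟩ := hf b hb
    obtain ⟨lc, ec⟩ := hf _ (hmul a ha b hb hab)
    refine kT_sound la lb lc (fun e => hab (hinj a ha b hb e)) ?_
    exact (ea.mul eb (sylM_le (el2_spec (kRep_ok lb)).2.2)).symm.trans ec
  obtain ⟨a, ha, hamin⟩ := Finset.exists_min_image S f (Finset.card_pos.1 (by omega))
  have h1 : (S.erase a).Nonempty := Finset.card_pos.1 (by rw [Finset.card_erase_of_mem ha]; omega)
  obtain ⟨b, hb', hbmin⟩ := Finset.exists_min_image _ f h1
  obtain ⟨hba, hb⟩ := Finset.mem_erase.1 hb'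
  have hp := hmul a ha b hb hba.symm
  have h2' : (S \ {a, b, a * b}).Nonempty := Finset.card_pos.1 (by
    have := Finset.le_card_sdiff ({a, b, a * b} : Finset K2) S
    have h3 : ({a, b, a * b} : Finset K2).card ≤ 3 := Finset.card_le_three
    omega)
  obtain ⟨c, hc', hcmin⟩ := Finset.exists_min_image _ f h2'
  obtain ⟨hc, hcn⟩ := Finset.mem_sdiff.1 hc'
  simp only [Finset.mem_insert, Finset.mem_singleton, not_or] at hcn
  obtain ⟨hca, hcb, hcp⟩ := hcn
  have hA := hmul a ha c hc (Ne.symm hca)
  have hB := hmul b hb c hc (Ne.symm hcb)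
  have hC := hmul _ hp c hc (Ne.symm hcp)
  have h3' : (S \ {a, b, a * b, c, a * c, b * c, a * b * c}).Nonempty := Finset.card_pos.1 (by
    have := Finset.le_card_sdiff ({a, b, a * b, c, a * c, b * c, a * b * c} : Finset K2) S
    have h4 : ({a, b, a * b, c, a * c, b * c, a * b * c} : Finset K2).card ≤ 7 := by
      refine (Finset.card_insert_le _ _).trans (Nat.succ_le_succ ?_)
      refine (Finset.card_insert_le _ _).trans (Nat.succ_le_succ ?_)
      refine (Finset.card_insert_le _ _).trans (Nat.succ_le_succ ?_)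
      refine (Finset.card_insert_le _ _).trans (Nat.succ_le_succ ?_)
      exact Finset.card_le_three
    omega)
  obtain ⟨d, hd', -⟩ := Finset.exists_min_image _ f h3'
  obtain ⟨hd, hdn⟩ := Finset.mem_sdiff.1 hd'
  simp only [Finset.mem_insert, Finset.mem_singleton, not_or] at hdn
  obtain ⟨d1, d2, d3, d4, d5, d6, d7⟩ := hdn
  have lij : f a < f b := lt_of_le_of_ne (hamin b hb) fun e => hba (hinj a ha b hb e).symm
  have ljk : f b < f c := lt_of_le_of_ne (hbmin c (Finset.mem_erase.2 ⟨hca, hc⟩))
    fun e => hcb (hinj b hb c hc e).symm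
  have lkl : f c < f d := lt_of_le_of_ne
    (hcmin d (Finset.mem_sdiff.2 ⟨hd, by simp [d1, d2, d3]⟩)) fun e => d4 (hinj c hc d hd e).symm
  have hpure : pureOK (f a) = true := by
    rcases Nat.lt_or_ge (f a) 51 with h | h
    · exact all_range pure_0 h
    · have := all_range pure_1 (show f a - 51 < 51 by have := (hf a ha).1; omega)
      rwa [Nat.sub_add_cancel h] at this
  simp only [pureOK, force_eq] at hpure
  have P1 := all_range hpure (hf b hb).1
  have B : ∀ u ∈ S, Nat.blt (f u) 102 = true := fun u hu => Nat.ble_eq.mpr (hf u hu).1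
  have N : ∀ u ∈ S, ∀ w ∈ S, u ≠ w → Nat.beq (f u) (f w) = false := fun u hu w hw hne =>
    eq_false_of_ne_true fun e => hne (hinj u hu w hw (Nat.eq_of_beq_eq_true e))
  rw [show Nat.blt (f a) (f b) = true from Nat.ble_eq.mpr lij, hT a ha b hb hba.symm, B _ hp] at P1
  simp only [Bool.not_true, Bool.false_or] at P1
  have P2 := all_range P1 (hf c hc).1
  rw [show Nat.blt (f b) (f c) = true from Nat.ble_eq.mpr ljk, N c hc _ hp hcp,
    hT a ha c hc (Ne.symm hca), hT b hb c hc (Ne.symm hcb), hT _ hp c hc (Ne.symm hcp),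
    B _ hA, B _ hB, B _ hC] at P2
  simp only [Bool.not_true, Bool.false_or, Bool.and_self] at P2
  have P3 := all_range P2 (hf d hd).1
  rw [show Nat.blt (f c) (f d) = true from Nat.ble_eq.mpr lkl, N d hd _ hp d3, N d hd _ hA d5,
    N d hd _ hB d6, N d hd _ hC d7,
    hT a ha d hd (Ne.symm d1), hT b hb d hd (Ne.symm d2), hT _ hp d hd (Ne.symm d3),
    hT c hc d hd (Ne.symm d4), hT _ hA d hd (Ne.symm d5), hT _ hB d hd (Ne.symm d6),
    hT _ hC d hd (Ne.symm d7),
    B _ (hmul a ha d hd (Ne.symm d1)), B _ (hmul b hb d hd (Ne.symm d2)),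
    B _ (hmul _ hp d hd (Ne.symm d3)), B _ (hmul c hc d hd (Ne.symm d4)),
    B _ (hmul _ hA d hd (Ne.symm d5)), B _ (hmul _ hB d hd (Ne.symm d6)),
    B _ (hmul _ hC d hd (Ne.symm d7))] at P3
  exact absurd P3 (by decide)

end Cfsg.Agent.CoTwoUniq.Fus
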