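import Cfsg.Agent.CoTwoUniq.Fusion.InvolChk

/-!
An involution of the Sylow subgroup is conjugate to a sign change, or is centralised by sixteen
elements of the radical multiplying it into its own class; and four independent keys do not occur.
-/

set_option autoImplicit false
set_option maxRecDepth 100000
set_option maxHeartbeats 1000000

open Cfsg

namespace Cfsg.Agent.CoTwoUniq.Fus

open Cfsg.Agent.Leech (spanList ptOf toL oct idx)
open Cfsg.Agent.Leech.CentTwo (octL)
open CosetCert (force force_eq)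

theorem rows_chk : ((List.range 10).all fun j =>
    avMasks.contains (rowsL.getD (j + 2) 0)) = true := by decide +kernel

theorem memE_sound {n : ℕ} (h : memE n = true) : n ∈ avMasks := by
  rw [memE, Bool.and_eq_true] at h
  rw [← Nat.eq_of_beq_eq_true h.2]
  have key : ∀ l : List ℕ, (∀ j ∈ l, j < 10) →
      l.foldr (fun j acc => if n.testBit (j + 2) then rowsL.getD (j + 2) 0 ^^^ acc else acc) 0 ∈
        avMasks := by
    intro l
    induction l with
    | nil => exact fun _ => mask_zero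
    | cons a t ih =>
      intro hl
      have h' := ih fun j hj => hl j (List.mem_cons_of_mem _ hj)
      rw [List.foldr_cons]
      split_ifs
      · exact avMasks_xor (List.contains_iff_mem.1 (all_range rows_chk (hl a List.mem_cons_self))) h'
      · exact h'
  exact key _ fun j hj => List.mem_range.1 hj

theorem okPair_spec {a : ℕ × ℕ} (h : okPair a = true) : a.1 < 256 ∧ a.2 ∈ avMasks := by
  rw [okPair, Bool.and_eq_true] at h
  exact ⟨Nat.ble_eq.mp h.1, memE_sound h.2⟩

/-- A listed pair as an element. -/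
def el2 (a : ℕ × ℕ) : K2 := el a.1 a.2

theorem el2_spec {a : ℕ × ℕ} (h : okPair a = true) :
    Real (el2 a) (cd a) ∧ OkC (cd a) ∧ el2 a ∈ sylM :=
  ⟨(el_spec (okPair_spec h).1 (okPair_spec h).2).1, (el_spec (okPair_spec h).1 (okPair_spec h).2).2,
    el_mem (okPair_spec h).1 (okPair_spec h).2⟩

theorem ok_zero : okPair (0, 0) = true := by decide +kernel

theorem el2_zero : el2 (0, 0) = 1 := by rw [el2, el_sgn, sgn_zero]

theorem pP_lt {i j : ℕ} (hi : i < 256) (hj : j < 24) : fld (pk5 i) j < 24 := by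
  have := (elP_spec hi).2.1.2.1 j hj
  rwa [pP_getD hj] at this

theorem cmul_snd {a b : Code} {j : ℕ} (hj : j < 24) :
    (cmul a b).2.testBit j = (a.2.testBit j != b.2.testBit (a.1.getD j 0)) := by
  show (a.2 ^^^ pmask a.1 b.2).testBit j = _
  rw [Nat.testBit_xor, testBit_pmask _ _ hj]

theorem code_ext {a b : Code} (oa : OkC a) (ob : OkC b)
    (h : ∀ j, j < 24 → a.1.getD j 0 = b.1.getD j 0 ∧ a.2.testBit j = b.2.testBit j) : a = b := by
  refine Prod.ext (List.ext_getElem (oa.1.trans ob.1.symm) fun j h1 h2 => ?_)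
    (Nat.eq_of_testBit_eq fun j => ?_)
  · rw [← List.getD_eq_getElem _ 0 h1, ← List.getD_eq_getElem _ 0 h2]
    exact (h j (oa.1 ▸ h1)).1
  · by_cases hj : j < 24
    · exact (h j hj).2
    · have hp : (2 : ℕ) ^ 24 ≤ 2 ^ j := Nat.pow_le_pow_right (by norm_num) (by omega)
      rw [Nat.testBit_lt_two_pow (oa.2.2.trans_le hp), Nat.testBit_lt_two_pow (ob.2.2.trans_le hp)]

theorem mulEq_sound {a b c d : ℕ × ℕ} (ha : okPair a = true) (hb : okPair b = true)
    (hc : okPair c = true) (hd : okPair d = true) (h : mulEq a b c d = true) :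
    el2 a * el2 b = el2 c * el2 d := by
  obtain ⟨ra, oa, -⟩ := el2_spec ha
  obtain ⟨rb, ob, -⟩ := el2_spec hb
  obtain ⟨rc, oc, -⟩ := el2_spec hc
  obtain ⟨rd, od, -⟩ := el2_spec hd
  refine (ra.mul rb oa).unique ?_
  rw [code_ext (okC_cmul oa ob) (okC_cmul oc od) fun j hj => ?_]
  · exact rc.mul rd oc
  simp only [mulEq, force_eq] at h
  have h' := all_range h hj
  rw [Bool.and_eq_true, beq_iff_eq] at h'
  simp only [cmul_fst hj, cmul_snd hj, cd, pP_getD hj]
  rw [pP_getD (j := fld (FusData.pL.getD a.1 0) j) (pP_lt (okPair_spec ha).1 hj),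
    pP_getD (j := fld (FusData.pL.getD c.1 0) j) (pP_lt (okPair_spec hc).1 hj)]
  exact ⟨Nat.eq_of_beq_eq_true h'.1, h'.2⟩

theorem conjEq_sound {q x c : ℕ × ℕ} (hq : okPair q = true) (hx : okPair x = true)
    (hc : okPair c = true) (h : conjEq q x c = true) : el2 q * el2 x = el2 x * el2 c * el2 q := by
  obtain ⟨rq, oq, -⟩ := el2_spec hq
  obtain ⟨rx, ox, -⟩ := el2_spec hx
  obtain ⟨rc, oc, -⟩ := el2_spec hc
  refine (rq.mul rx oq).unique ?_
  rw [code_ext (okC_cmul oq ox) (okC_cmul (okC_cmul ox oc) oq) fun j hj => ?_]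
  · exact (rx.mul rc ox).mul rq (okC_cmul ox oc)
  simp only [conjEq, force_eq] at h
  have h' := all_range h hj
  rw [Bool.and_eq_true, beq_iff_eq] at h'
  have l1 := pP_lt (okPair_spec hx).1 hj
  have l2 := pP_lt (okPair_spec hc).1 l1
  simp only [cmul_fst hj, cmul_snd hj, cd, pP_getD hj]
  rw [pP_getD (j := fld (FusData.pL.getD q.1 0) j) (pP_lt (okPair_spec hq).1 hj),
    pP_getD (j := fld (FusData.pL.getD x.1 0) j) l1,
    pP_getD (j := fld (FusData.pL.getD c.1 0) (fld (FusData.pL.getD x.1 0) j)) l2]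
  exact ⟨Nat.eq_of_beq_eq_true h'.1, h'.2⟩

theorem keySame_sound {a b : ℕ × ℕ} (ha : okPair a = true) (hb : okPair b = true)
    (h : keySame a b = true) : EqO (el2 a) (el2 b) := by
  refine eqO_of_key (el2_spec ha).1 (el2_spec hb).1 (sylM_le (el2_spec ha).2.2)
    (sylM_le (el2_spec hb).2.2) (List.all_eq_true.2 fun j hj => ?_)
  simp only [keySame, force_eq] at h
  simp only [cd, pP_getD (octL_lt j hj)]
  exact List.all_eq_true.1 h j hj

theorem keyOne_sound {a : ℕ × ℕ} (ha : okPair a = true) (h : keyOne a = true) : el2 a ∈ Q1 := by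
  refine ⟨sylM_le (el2_spec ha).2.2, eqO_of_key (el2_spec ha).1 real_one
    (sylM_le (el2_spec ha).2.2) (one_mem _) (List.all_eq_true.2 fun j hj => ?_)⟩
  simp only [keyOne, force_eq] at h
  have h' := List.all_eq_true.1 h j hj
  rw [Bool.and_eq_true, Bool.not_eq_true'] at h'
  simp only [cd, sC, pP_getD (octL_lt j hj), range_getD (octL_lt j hj), h'.2, Nat.zero_testBit]
  rw [show fld (FusData.pL.getD a.1 0) j = fld (pk5 a.1) j from rfl, Nat.eq_of_beq_eq_true h'.1,
    Nat.beq_refl]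
  rfl

/-- Conjugate to a sign change inside the centraliser. -/
def Good (x : K2) : Prop := ∃ k ∈ C1, ∃ m ∈ avMasks, x * k = k * sgn m

/-- Centralised by sixteen elements of the radical, each multiplying it into its class. -/
def Bad (x : K2) : Prop :=
  ∃ R : Subgroup K2, R ≤ Q1 ∧ Nat.card R = 16 ∧ (∀ a ∈ R, ∀ b ∈ R, a * b = b * a) ∧
    (∀ a ∈ R, a * a = 1) ∧ (∀ a ∈ R, x * a = a * x) ∧ ∀ a ∈ R, ∃ k ∈ C1, k * x * k⁻¹ = x * a

/-- The key is listed. -/
def AB (x : K2) : Prop := ∃ k, k < 102 ∧ EqO x (el2 (FusData.kRep.getD k (0, 0)))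

theorem Good.conj {x k : K2} (hk : k ∈ C1) (h : Good x) : Good (k * x * k⁻¹) := by
  obtain ⟨c, hc, m, hm, e⟩ := h
  exact ⟨k * c, mul_mem hk hc, m, hm, by
    calc k * x * k⁻¹ * (k * c) = k * (x * c) := by group
      _ = k * c * sgn m := by rw [e]; group⟩

theorem Bad.conj {x k : K2} (hk : k ∈ C1) (h : Bad x) : Bad (k * x * k⁻¹) := by
  obtain ⟨R, hR, hcard, hcomm, hsq, hx, hcon⟩ := h
  refine ⟨R.map (MulAut.conj k).toMonoidHom, ?_, ?_, ?_, ?_, ?_, ?_⟩
  · rintro _ ⟨a, ha, rfl⟩
    exact Q1_conj hk (hR ha)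
  · rw [Subgroup.card_map_of_injective (MulAut.conj k).injective, hcard]
  · rintro _ ⟨a, ha, rfl⟩ _ ⟨b, hb, rfl⟩
    rw [← map_mul, ← map_mul, hcomm a ha b hb]
  · rintro _ ⟨a, ha, rfl⟩
    rw [← map_mul, hsq a ha, map_one]
  · rintro _ ⟨a, ha, rfl⟩
    show MulAut.conj k x * MulAut.conj k a = MulAut.conj k a * MulAut.conj k x
    rw [← map_mul, ← map_mul, hx a ha]
  · rintro _ ⟨a, ha, rfl⟩
    obtain ⟨c, hc, e⟩ := hcon a ha
    refine ⟨k * c * k⁻¹, mul_mem (mul_mem hk hc) (inv_mem hk), ?_⟩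
    show _ = k * x * k⁻¹ * (k * a * k⁻¹)
    calc k * c * k⁻¹ * (k * x * k⁻¹) * (k * c * k⁻¹)⁻¹ = k * (c * x * c⁻¹) * k⁻¹ := by group
      _ = k * (x * a) * k⁻¹ := by rw [e]
      _ = _ := by group

theorem kRep_ok {k : ℕ} (hk : k < 102) : okPair (FusData.kRep.getD k (0, 0)) = true := by
  have h := all_range kConj_chk hk
  simp only [kConjOK, force_eq, Bool.and_eq_true] at h
  exact h.1

theorem inKeys_sound {a : ℕ × ℕ} (ha : okPair a = true) (h : inKeys a = true) : AB (el2 a) := by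
  obtain ⟨b, hb, hab⟩ := List.any_eq_true.1 h
  obtain ⟨k, hk, rfl⟩ := List.getElem_of_mem hb
  have hk' : k < 102 := knums_diff.2 ▸ hk
  refine ⟨k, hk', ?_⟩
  rw [List.getD_eq_getElem _ _ hk]
  exact keySame_sound ha (List.getD_eq_getElem _ _ hk ▸ kRep_ok hk') hab

/-- The `a`th generator of the Sylow subgroup. -/
def sGen (a : ℕ) : K2 := if a < 4 then gEl a else sgn (FusData.eB.getD (a - 4) 0)

theorem sGen_spec {a : ℕ} (ha : a < 14) :
    Real (sGen a) (if a < 4 then gCode a else sC (FusData.eB.getD (a - 4) 0)) ∧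
      OkC (if a < 4 then gCode a else sC (FusData.eB.getD (a - 4) 0)) ∧ sGen a ∈ C1 := by
  by_cases h : a < 4
  · simp only [sGen, if_pos h]
    exact ⟨(gEl_spec h).1, (gEl_spec h).2.1, gEl_comm h⟩
  · simp only [sGen, if_neg h]
    have hl : FusData.eB.length = 10 := by decide +kernel
    have hm : FusData.eB.getD (a - 4) 0 ∈ avMasks := by
      rw [List.getD_eq_getElem _ _ (by omega)]
      exact List.contains_iff_mem.1 (List.all_eq_true.1 eB_chk _ (List.getElem_mem _))
    exact ⟨real_av hm, okC_av hm, sylM_le.sgn_mem_C1' hm⟩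

theorem AB.conj_gen {x : K2} {a : ℕ} (ha : a < 14) (h : AB x) :
    AB (sGen a * x * (sGen a)⁻¹) := by
  obtain ⟨k, hk, he⟩ := h
  have h' := all_range kConj_chk hk
  simp only [kConjOK, force_eq, Bool.and_eq_true] at h'
  have hall := all_range h'.2 ha
  simp only [Bool.and_eq_true] at hall
  obtain ⟨hlt, hall⟩ := hall
  set k' := FusData.kConj.getD k 0 / 2 ^ (7 * a) % 2 ^ 7 with hk'
  have hk'' : k' < 102 := Nat.ble_eq.mp hlt
  obtain ⟨rg, og, cg⟩ := sGen_spec ha
  obtain ⟨rk, ok, sk⟩ := el2_spec (kRep_ok hk)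
  obtain ⟨rk', ok', sk'⟩ := el2_spec (kRep_ok hk'')
  refine ⟨k', hk'', ?_⟩
  have e : EqO (sGen a * el2 (FusData.kRep.getD k (0, 0)))
      (el2 (FusData.kRep.getD k' (0, 0)) * sGen a) := by
    refine eqO_of_key (rg.mul rk og) (rk'.mul rg ok') (mul_mem cg (sylM_le sk))
      (mul_mem (sylM_le sk') cg) (List.all_eq_true.2 fun j hj => ?_)
    have hj24 := octL_lt j hj
    have h8 := List.all_eq_true.1 hall j hj
    rw [Bool.and_eq_true, beq_iff_eq] at h8
    have g1 : ∀ i, i < 24 →
        (if a < 4 then gCode a else sC (FusData.eB.getD (a - 4) 0)).1.getD i 0 = genP8 a i := by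
      intro i hi
      by_cases h : a < 4
      · simp [genP8, h, gCode, show Nat.blt a 4 = true from Nat.ble_eq.mpr h]
      · rw [if_neg h]
        show (List.range 24).getD i 0 = genP8 a i
        rw [range_getD hi, genP8, show Nat.blt a 4 = false from
          eq_false_of_ne_true fun hh => h (Nat.ble_eq.mp hh)]
        rfl
    have g2 : (if a < 4 then gCode a else sC (FusData.eB.getD (a - 4) 0)).2 = genM8 a := by
      by_cases h : a < 4
      · simp [genM8, h, gCode, show Nat.blt a 4 = true from Nat.ble_eq.mpr h]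
      · simp [genM8, h, sC, show Nat.blt a 4 = false from
          eq_false_of_ne_true fun hh => h (Nat.ble_eq.mp hh)]
    have lg : genP8 a j < 24 := g1 j hj24 ▸ og.2.1 j hj24
    have lk : fld (pk5 (FusData.kRep.getD k' (0, 0)).1) j < 24 :=
      pP_lt (okPair_spec (kRep_ok hk'')).1 hj24
    rw [Bool.and_eq_true, beq_iff_eq, cmul_fst hj24, cmul_fst hj24, cmul_snd hj24, cmul_snd hj24,
      g1 j hj24, g2]
    show _ ∧ (_ != (FusData.kRep.getD k (0, 0)).2.testBit _) = ((FusData.kRep.getD k' (0, 0)).2.testBit j != _)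
    simp only [cd, pP_getD hj24, pP_getD lg]
    rw [show fld (FusData.pL.getD (FusData.kRep.getD k' (0, 0)).1 0) j =
      fld (pk5 (FusData.kRep.getD k' (0, 0)).1) j from rfl, g1 _ lk]
    exact h8
  have e1 : EqO (sGen a * x * (sGen a)⁻¹) (sGen a * el2 (FusData.kRep.getD k (0, 0)) * (sGen a)⁻¹) :=
    ((EqO.refl (sGen a)).mul he (sylM_le sk)).mul (EqO.refl _) (inv_mem cg)
  refine e1.trans ?_
  have e2 := e.mul (EqO.refl (sGen a)⁻¹) (inv_mem cg)
  rwa [mul_inv_cancel_right] at e2

theorem AB.conj {x s : K2} (hs : s ∈ sylM) (h : AB x) : AB (s * x * s⁻¹) := by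
  let M : Submonoid K2 :=
    { carrier := {g | ∀ x, AB x → AB (g * x * g⁻¹)}
      one_mem' := fun x hx => by simpa using hx
      mul_mem' := fun {a b} ha hb x hx => by
        have := ha _ (hb x hx)
        rwa [show a * b * x * (a * b)⁻¹ = a * (b * x * b⁻¹) * a⁻¹ by group] }
  obtain ⟨i, hi, n, hn, rfl⟩ := hs
  suffices hM : el i n ∈ M from hM x h
  refine M.mul_mem ?_ (Submonoid.list_prod_mem _ fun g hg => ?_)
  · have hn' := mem_eL.2 hn
    have key : ∀ l : List ℕ, (∀ r ∈ l, r ∈ avMasks ∧ sgn r ∈ M) →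
        ∀ m ∈ spanList l, m ∈ avMasks ∧ sgn m ∈ M := by
      intro l
      induction l with
      | nil =>
        intro _ m hm
        simp only [spanList, List.mem_singleton] at hm
        subst hm
        exact ⟨mask_zero, sgn_zero ▸ M.one_mem⟩
      | cons b t ih =>
        intro hl m hm
        have ih' := ih fun r hr => hl r (List.mem_cons_of_mem _ hr)
        rcases List.mem_append.1 hm with hm | hm
        · exact ih' m hm
        · obtain ⟨c, hc, rfl⟩ := List.mem_map.1 hm
          obtain ⟨hb1, hb2⟩ := hl b List.mem_cons_self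
          obtain ⟨hc1, hc2⟩ := ih' c hc
          exact ⟨avMasks_xor hb1 hc1, real_sgn_mul hb1 hc1 ▸ M.mul_mem hb2 hc2⟩
    refine (key _ (fun r hr => ⟨List.contains_iff_mem.1 (List.all_eq_true.1 eB_chk r hr), ?_⟩) n hn').2
    obtain ⟨a, ha, rfl⟩ := List.getElem_of_mem hr
    have hl : FusData.eB.length = 10 := by decide +kernel
    intro y hy
    have := hy.conj_gen (a := a + 4) (by omega)
    rw [sGen, if_neg (by omega), Nat.add_sub_cancel, List.getD_eq_getElem _ _ ha] at this
    exact this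
  · obtain ⟨a, ha, rfl⟩ := List.mem_map.1 hg
    have ha4 : a < 4 := Nat.ble_eq.mp (List.all_eq_true.1 (word_chk ⟨i, hi⟩).1 a ha)
    intro y hy
    have := hy.conj_gen (a := a) (by omega)
    rwa [sGen, if_pos ha4] at this

theorem decC_getD {n j : ℕ} (hj : j < 24) : (decC n).getD j 0 = (fld9 n j : ℤ) - 256 := by
  rw [decC, List.getD_eq_getElem _ _ (by simpa using hj)]
  simp

theorem steps_sound (i : ℕ) : ∀ (w : List ℕ) (ns : List ℕ), stepsOK i w ns = true → w ≠ [] →
    wF w (toL ((oct (ptOf i) : leechLattice) : GolayPt → ℤ)) = decC (ns.headD 0)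
  | [], _, _, h => absurd rfl h
  | [a], [n], h, _ => by
    rw [stepsOK] at h
    simpa [wF] using Leech.Model.eq_of_eqZ h
  | a :: b :: t, n :: m :: r, h, _ => by
    rw [stepsOK, force_eq, Bool.and_eq_true] at h
    have := steps_sound i (b :: t) (m :: r) h.2 (by simp)
    rw [wF, this]
    exact Leech.Model.eq_of_eqZ h.1
  | [_], [], h, _ => by simp [stepsOK] at h
  | [_], _ :: _ :: _, h, _ => by simp [stepsOK] at h
  | _ :: _ :: _, [], h, _ => by simp [stepsOK] at h
  | _ :: _ :: _, [_], h, _ => by simp [stepsOK] at h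

theorem word_spec {k : ℕ} (hk : k < 11) :
    wEl (FusData.wordL.getD k []) ∈ C1 ∧ ∀ c, c < 24 →
      toL ((inc (wEl (FusData.wordL.getD k [])) • oct (ptOf c) : leechLattice) : GolayPt → ℤ) =
        decC (((FusData.wSteps.getD k []).getD c []).headD 0) := by
  have h : wordOK k = true := by
    rcases Nat.lt_or_ge k 6 with hk6 | hk6
    · exact all_range word_0 hk6
    · have := all_range word_1 (show k - 6 < 5 by omega)
      rwa [Nat.sub_add_cancel hk6] at this
  simp only [wordOK, Bool.and_eq_true, Bool.not_eq_true'] at h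
  obtain ⟨⟨h1, h2⟩, h3⟩ := h
  obtain ⟨hC, hF⟩ := wEl_spec (w := FusData.wordL.getD k [])
    (fun a ha => Nat.ble_eq.mp (List.all_eq_true.1 h1 a ha))
  refine ⟨hC, fun c hc => ?_⟩
  rw [hF]
  exact steps_sound c _ _ (all_range h3 hc) (fun e => by rw [e] at h2; cases h2)

theorem smul_neg_oct (g : ↥Co0) (v : leechLattice) : g • -v = -(g • v) :=
  map_neg (AddMonoidHom.mk' (fun w : leechLattice => g • w) (Leech.smul_add' g)) v

theorem sgn_oct {m c : ℕ} (hm : m ∈ avMasks) (hc : c < 24) :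
    inc (sgn m) • oct (ptOf c) = if m.testBit c then -oct (ptOf c) else oct (ptOf c) := by
  refine Subtype.ext (Leech.toL_injective ?_)
  rw [real_av hm]
  refine List.ext_getElem (by simp [cF, toL]) fun j j1 j2 => ?_
  have hj : j < 24 := by simpa [cF] using j1
  rw [← List.getD_eq_getElem _ 0 j1, ← List.getD_eq_getElem _ 0 j2, cF_getD _ _ hj]
  show (if m.testBit j then -((toL _).getD ((List.range 24).getD j 0) 0)
    else (toL _).getD ((List.range 24).getD j 0) 0) = _
  rw [range_getD hj, oct_getD c j hc hj, Leech.toL_getD _ _ hj]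
  have hv : ((oct (ptOf c) : leechLattice) : GolayPt → ℤ) (ptOf j) = if j = c then 8 else 0 := by
    rw [← Leech.toL_getD ((oct (ptOf c) : leechLattice) : GolayPt → ℤ) _ hj, oct_getD c j hc hj]
  by_cases hjc : j = c
  · subst hjc
    cases m.testBit j <;> simp [hv]
  · cases m.testBit j <;> cases m.testBit c <;> simp [hv, hjc]

/-- The statement proved for every representative and carried to all involutions. -/
def InvProp (x : K2) : Prop :=
  (Good x ∨ Bad x ∧ AB x) ∧ (x ∈ Q1 ∨ tr (z0 * x) ≠ 5 ∨ AB x)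

theorem InvProp.conj {x s : K2} (hs : s ∈ sylM) (h : InvProp x) : InvProp (s * x * s⁻¹) := by
  obtain ⟨h1, h2⟩ := h
  have hc : s ∈ C1 := sylM_le hs
  refine ⟨h1.imp (·.conj hc) (fun h => ⟨h.1.conj hc, h.2.conj hs⟩),
    h2.imp (Q1_conj hc) (Or.imp (fun h e => h ?_) (·.conj hs))⟩
  rw [show z0 * (s * x * s⁻¹) = s * (z0 * x) * s⁻¹ by
    have := Subgroup.mem_centralizer_singleton_iff.1 hc
    calc z0 * (s * x * s⁻¹) = z0 * s * x * s⁻¹ := by group
      _ = s * z0 * x * s⁻¹ := by rw [this]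
      _ = _ := by group, tr_conj] at e
  exact e

theorem tr_zmul {i n : ℕ} (hi : i < 256) (hn : n ∈ avMasks) :
    tr (z0 * el i n) = trCode (pP i, Data.zm ^^^ n) := by
  have hz : Data.zm ∈ avMasks := base_facts.1.1
  have hzn := avMasks_xor hz hn
  have e : z0 * el i n = el i (Data.zm ^^^ n) := by
    rw [el, el, ← real_sgn_mul hz hn, sgn_zm, mul_assoc]
  rw [e]
  exact tr_real (el_spec hi hzn).1 (el_spec hi hzn).2

theorem trFive_sound {i n : ℕ} (hi : i < 256) (hn : n ∈ avMasks) (h : trFive (i, n) = false) :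
    tr (z0 * el i n) ≠ 5 := by
  rw [tr_zmul hi hn]
  exact of_decide_eq_false h

theorem repG_prop {q : ℕ} (hq : q < 50) :
    InvProp (el2 (FusData.reps0.getD (FusData.repG.getD q (0, 0, [], 0)).1 0,
      (FusData.repG.getD q (0, 0, [], 0)).2.1)) := by
  have h : repGOK q = true := by
    rcases Nat.lt_or_ge q 25 with h25 | h25
    · exact all_range repG_0 h25
    · have := all_range repG_1 (show q - 25 < 25 by omega)
      rwa [Nat.sub_add_cancel h25] at this
  simp only [repGOK, force_eq, Bool.and_eq_true, Bool.or_eq_true, Bool.not_eq_true'] at h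
  obtain ⟨⟨⟨⟨hok, hm⟩, hk⟩, hkey⟩, hall⟩ := h
  set k := FusData.repGW.getD q 0
  set i := FusData.reps0.getD (FusData.repG.getD q (0, 0, [], 0)).1 0
  set n := (FusData.repG.getD q (0, 0, [], 0)).2.1
  set m := (FusData.repG.getD q (0, 0, [], 0)).2.2.2
  have hm' := memE_sound hm
  obtain ⟨hi, hn⟩ := okPair_spec hok
  obtain ⟨hC, hcol⟩ := word_spec (Nat.ble_eq.mp hk)
  obtain ⟨r, o, -⟩ := el2_spec hok
  refine ⟨Or.inl ⟨_, hC, m, hm', inc_injective (Leech.ext_of_oct fun p => ?_)⟩, ?_⟩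
  · obtain ⟨c, hc, rfl⟩ : ∃ c, c < 24 ∧ ptOf c = p := ⟨idx p, Leech.idx_lt p, Leech.ptOf_idx p⟩
    rw [map_mul, map_mul, mul_smul, mul_smul, sgn_oct hm' hc]
    refine Subtype.ext (Leech.toL_injective ?_)
    rw [r]
    refine List.ext_getElem (by simp [cF, toL]) fun j j1 j2 => ?_
    have hj : j < 24 := by simpa [cF] using j1
    rw [← List.getD_eq_getElem _ 0 j1, ← List.getD_eq_getElem _ 0 j2, cF_getD _ _ hj]
    have hp := pP_lt hi hj
    show (if n.testBit j then -((toL _).getD ((pP i).getD j 0) 0)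
      else (toL _).getD ((pP i).getD j 0) 0) = _
    rw [pP_getD hj, hcol c hc, decC_getD (show fld (FusData.pL.getD i 0) j < 24 from hp)]
    have hh := all_range (all_range hall hc) hj
    rw [show fld (pk5 i) j = fld (FusData.pL.getD i 0) j from rfl] at hh
    have hcl := congrArg (fun l : List ℤ => l.getD j 0) (hcol c hc)
    simp only [decC_getD hj, Leech.toL_getD _ _ hj] at hcl
    rw [Leech.toL_getD _ _ hj]
    cases h1 : n.testBit j <;> cases h2 : m.testBit c <;>
      simp only [h1, h2, bne_self_eq_false, Bool.false_eq_true, if_false, if_true,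
        show (false != true) = true from rfl, show (true != false) = true from rfl] at hh ⊢ <;>
      have e := Nat.eq_of_beq_eq_true hh <;>
      first
        | (rw [smul_neg_oct, AddSubgroup.coe_neg, Pi.neg_apply, hcl]; omega)
        | (rw [hcl]; omega)
  · rcases hkey with (h' | h') | h'
    · exact Or.inl (keyOne_sound hok h')
    · exact Or.inr (Or.inl (trFive_sound hi hn h'))
    · exact Or.inr (Or.inr (inKeys_sound hok h'))

theorem repB_prop {e : ℕ × ℕ × List (ℕ × ℕ) × List (ℕ × ℕ)} (he : e ∈ FusData.repB) :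
    InvProp (el2 (FusData.reps0.getD e.1 0, e.2.1)) := by
  classical
  have h : repBOK e = true := by
    rw [← List.take_append_drop 12 FusData.repB, List.mem_append] at he
    rcases he with he | he
    · exact List.all_eq_true.1 repB_0 e he
    rw [← List.take_append_drop 12 (FusData.repB.drop 12), List.mem_append, List.drop_drop] at he
    rcases he with he | he
    · exact List.all_eq_true.1 repB_1 e he
    rw [← List.take_append_drop 12 (FusData.repB.drop (12 + 12)), List.mem_append, List.drop_drop] at he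
    rcases he with he | he
    · exact List.all_eq_true.1 repB_2 e he
    · exact List.all_eq_true.1 repB_3 e he
  simp only [repBOK, force_eq, Bool.and_eq_true] at h
  obtain ⟨⟨⟨⟨⟨⟨hok, hkey⟩, hlen⟩, hid⟩, hdiff⟩, h16⟩, h4⟩ := h
  replace hlen := Nat.eq_of_beq_eq_true hlen
  set x : ℕ × ℕ := (FusData.reps0.getD e.1 0, e.2.1)
  let C : ℕ → ℕ × ℕ := fun a => e.2.2.1.getD a (0, 0)
  let Qq : ℕ → ℕ × ℕ := fun a => e.2.2.2.getD a (0, 0)
  have hC : ∀ a, a < 16 → okPair (C a) = true ∧ okPair (Qq a) = true ∧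
      el2 (Qq a) * el2 x = el2 x * el2 (C a) * el2 (Qq a) := fun a ha => by
    have h' := all_range h16 ha
    simp only [Bool.and_eq_true] at h'
    exact ⟨h'.1.1, h'.1.2, conjEq_sound h'.1.2 hok h'.1.1 h'.2⟩
  have hz : el2 (C 0) = 1 := by
    have := mulEq_sound ok_zero ok_zero (hC 0 (by norm_num)).1 ok_zero hid
    rw [el2_zero, one_mul, mul_one] at this
    exact this.symm
  have hb : ∀ t, t < 4 → el2 (C (2 ^ t)) ∈ Q1 ∧ el2 (C (2 ^ t)) * el2 x = el2 x * el2 (C (2 ^ t)) ∧
      el2 (C (2 ^ t)) * el2 (C (2 ^ t)) = 1 ∧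
      (∀ a, a < 16 → el2 (C a) * el2 (C (2 ^ t)) = el2 (C (a ^^^ 2 ^ t))) ∧
      ∀ u, u < 4 → el2 (C (2 ^ t)) * el2 (C (2 ^ u)) = el2 (C (2 ^ u)) * el2 (C (2 ^ t)) := by
    intro t ht
    have h2 : 2 ^ t < 2 ^ 4 := Nat.pow_lt_pow_right (by norm_num) ht
    have h' := all_range h4 ht
    simp only [Bool.and_eq_true] at h'
    obtain ⟨⟨⟨⟨k1, k2⟩, k3⟩, k4⟩, k5⟩ := h'
    have hCb := (hC (2 ^ t) (by omega)).1
    refine ⟨keyOne_sound hCb k1, mulEq_sound hCb hok hok hCb k2, ?_, fun a ha => ?_, fun u hu => ?_⟩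
    · have := mulEq_sound hCb hCb ok_zero ok_zero k3
      rwa [el2_zero, mul_one] at this
    · have hx' : a ^^^ 2 ^ t < 2 ^ 4 := Nat.xor_lt_two_pow (by omega) h2
      have := mulEq_sound (hC a ha).1 hCb (hC _ (by omega)).1 ok_zero (all_range k4 ha)
      rwa [el2_zero, mul_one] at this
    · have hu2 : 2 ^ u < 2 ^ 4 := Nat.pow_lt_pow_right (by norm_num) hu
      exact mulEq_sound hCb (hC _ (by omega)).1 (hC _ (by omega)).1 hCb (all_range k5 hu)
  let S : Set K2 := {g | ∃ t, t < 4 ∧ g = el2 (C (2 ^ t))}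
  let R : Subgroup K2 := Subgroup.closure S
  have hcomm : ∀ a ∈ R, ∀ b ∈ R, a * b = b * a := by
    have h1 : ∀ s ∈ S, ∀ b ∈ R, s * b = b * s := by
      rintro _ ⟨t, ht, rfl⟩ b hb'
      have : R ≤ Subgroup.centralizer {el2 (C (2 ^ t))} := (Subgroup.closure_le _).2 (by
        rintro _ ⟨u, hu, rfl⟩
        exact Subgroup.mem_centralizer_singleton_iff.2 ((hb t ht).2.2.2.2 u hu).symm)
      exact (Subgroup.mem_centralizer_singleton_iff.1 (this hb')).symm
    intro a ha b hb'
    have : R ≤ Subgroup.centralizer {b} := (Subgroup.closure_le _).2 fun s hs =>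
      Subgroup.mem_centralizer_singleton_iff.2 (h1 s hs b hb')
    exact Subgroup.mem_centralizer_singleton_iff.1 (this ha)
  have hlist : ∀ g ∈ R, ∃ a, a < 16 ∧ g = el2 (C a) := by
    intro g hg
    induction hg using Subgroup.closure_induction_right with
    | one => exact ⟨0, by norm_num, hz.symm⟩
    | mul_right p _ s hs ih =>
      obtain ⟨t, ht, rfl⟩ := hs
      obtain ⟨a, ha, rfl⟩ := ih
      refine ⟨a ^^^ 2 ^ t, ?_, (hb t ht).2.2.2.1 a ha⟩
      have h2 : 2 ^ t < 2 ^ 4 := Nat.pow_lt_pow_right (by norm_num) ht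
      exact Nat.xor_lt_two_pow (n := 4) (by omega) h2
    | mul_inv_cancel p _ s hs ih =>
      obtain ⟨t, ht, rfl⟩ := hs
      obtain ⟨a, ha, rfl⟩ := ih
      have h2 : 2 ^ t < 2 ^ 4 := Nat.pow_lt_pow_right (by norm_num) ht
      rw [inv_eq_of_mul_eq_one_right (hb t ht).2.2.1]
      exact ⟨a ^^^ 2 ^ t, Nat.xor_lt_two_pow (n := 4) (by omega) h2, (hb t ht).2.2.2.1 a ha⟩
  have hmem : ∀ a, a < 16 → el2 (C a) ∈ R := by
    intro a
    induction a using Nat.strong_induction_on with
    | _ a ih =>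
      intro ha
      by_cases h0 : a = 0
      · subst h0; rw [hz]; exact one_mem R
      obtain ⟨t, ht, hlt⟩ : ∃ t, t < 4 ∧ a ^^^ 2 ^ t < a := by
        interval_cases a <;> first
          | omega
          | exact ⟨0, by decide, by decide⟩ | exact ⟨1, by decide, by decide⟩
          | exact ⟨2, by decide, by decide⟩ | exact ⟨3, by decide, by decide⟩
      have h' := (hb t ht).2.2.2.1 (a ^^^ 2 ^ t) (by omega)
      rw [Nat.xor_assoc, Nat.xor_self, Nat.xor_zero] at h'
      rw [← h']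
      exact mul_mem (ih _ hlt (by omega)) (Subgroup.subset_closure ⟨t, ht, rfl⟩)
  have hcard : Nat.card R = 16 := by
    let f : Fin 16 → R := fun a => ⟨el2 (C a), hmem a a.2⟩
    have hf : Function.Bijective f := by
      refine ⟨fun a b hab => ?_, fun ⟨g, hg⟩ => ?_⟩
      · obtain ⟨a1, a2⟩ := okPair_spec (hC a a.2).1
        obtain ⟨b1, b2⟩ := okPair_spec (hC b b.2).1
        obtain ⟨e1, e2⟩ := el_inj a1 b1 a2 b2 (congrArg Subtype.val hab)
        have la : (a : ℕ) < e.2.2.1.length := by rw [hlen]; exact a.2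
        have lb : (b : ℕ) < e.2.2.1.length := by rw [hlen]; exact b.2
        have hk : C a = C b := Prod.ext e1 e2
        simp only [C, List.getD_eq_getElem _ _ la, List.getD_eq_getElem _ _ lb] at hk
        exact Fin.ext ((List.Nodup.getElem_inj_iff (List.Nodup.of_map _ (nodup_of_diffL hdiff))).1 hk)
      · obtain ⟨a, ha, rfl⟩ := hlist g hg
        exact ⟨⟨a, ha⟩, rfl⟩
    rw [← Nat.card_eq_of_bijective f hf, Nat.card_fin]
  refine ⟨Or.inr ⟨⟨R, ?_, hcard, hcomm, ?_, ?_, ?_⟩, inKeys_sound hok hkey⟩,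
    Or.inr (Or.inr (inKeys_sound hok hkey))⟩
  · exact (Subgroup.closure_le _).2 fun g ⟨t, ht, he'⟩ => he' ▸ (hb t ht).1
  · intro g hg
    induction hg using Subgroup.closure_induction with
    | mem s hs => obtain ⟨t, ht, rfl⟩ := hs; exact (hb t ht).2.2.1
    | one => exact one_mul 1
    | mul a b ha hb' iha ihb =>
      calc a * b * (a * b) = a * (b * a) * b := by group
        _ = a * a * (b * b) := by rw [← hcomm a ha b hb']; group
        _ = 1 := by rw [iha, ihb, one_mul]
    | inv a ha iha => rw [← mul_inv_rev, iha, inv_one]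
  · intro g hg
    have : R ≤ Subgroup.centralizer {el2 x} := (Subgroup.closure_le _).2 (by
      rintro _ ⟨t, ht, rfl⟩
      exact Subgroup.mem_centralizer_singleton_iff.2 (hb t ht).2.1)
    exact (Subgroup.mem_centralizer_singleton_iff.1 (this hg)).symm
  · intro g hg
    obtain ⟨a, ha, rfl⟩ := hlist g hg
    obtain ⟨k1, k2, k3⟩ := hC a ha
    exact ⟨el2 (Qq a), sylM_le (el2_spec k2).2.2, by rw [k3, mul_inv_cancel_right]⟩

end Cfsg.Agent.CoTwoUniq.Fus
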