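import Cfsg.Agent.CoTwoUniq.Fusion.Syl
import Cfsg.Agent.Leech.CentTwoQuot

/-!
The sign changes are the only elementary abelian subgroup of order `1024` of the monomial Sylow
subgroup; that subgroup has centre of order two and is a Sylow subgroup of the centraliser.
-/

set_option autoImplicit false
set_option maxRecDepth 100000

open Cfsg

namespace Cfsg.Agent.CoTwoUniq.Fus

open Cfsg.Agent.Leech (spanList)
open CosetCert (force force_eq)

/-- The sign changes in a fixed order. -/
def eL : List ℕ := spanList FusData.eB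

/-- Their images. -/
def imL (P : List ℕ) : List ℕ := spanList (FusData.eB.map (pmask P))

theorem pmask_xor (P : List ℕ) (m n : ℕ) : pmask P (m ^^^ n) = pmask P m ^^^ pmask P n := by
  refine Nat.eq_of_testBit_eq fun j => ?_
  by_cases hj : j < 24
  · rw [Nat.testBit_xor, testBit_pmask _ _ hj, testBit_pmask _ _ hj, testBit_pmask _ _ hj,
      Nat.testBit_xor]
  · have hp : (2 : ℕ) ^ 24 ≤ 2 ^ j := Nat.pow_le_pow_right (by norm_num) (by omega)
    rw [Nat.testBit_lt_two_pow ((pmask_lt _ _).trans_le hp), Nat.testBit_xor,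
      Nat.testBit_lt_two_pow ((pmask_lt _ _).trans_le hp),
      Nat.testBit_lt_two_pow ((pmask_lt _ _).trans_le hp)]
    rfl

theorem imL_eq (P : List ℕ) : imL P = eL.map (pmask P) := by
  have key : ∀ l : List ℕ, spanList (l.map (pmask P)) = (spanList l).map (pmask P) := by
    intro l
    induction l with
    | nil => simp [spanList, pmask_zero]
    | cons a t ih =>
      simp only [List.map_cons, spanList, ih, List.map_append, List.map_map]
      congr 1
      refine List.map_congr_left fun x _ => ?_
      simp [pmask_xor]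
  exact key _

theorem eB_chk : (FusData.eB.all fun n => avMasks.contains n) = true := by decide +kernel

theorem eL_facts : eL.length = 1024 ∧ Leech.Model.noRep 0 (eL.map (· % 4096)) = true := by
  refine ⟨?_, ?_⟩ <;> decide +kernel

theorem eL_sub : ∀ n ∈ eL, n ∈ avMasks := by
  have key : ∀ l : List ℕ, (∀ r ∈ l, r ∈ avMasks) → ∀ n ∈ spanList l, n ∈ avMasks := by
    intro l
    induction l with
    | nil => intro _ n hn; simp only [spanList, List.mem_singleton] at hn; subst hn; exact mask_zero
    | cons a t ih =>
      intro h n hn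
      have ih' := ih fun r hr => h r (List.mem_cons_of_mem _ hr)
      rcases List.mem_append.1 hn with hn | hn
      · exact ih' n hn
      · obtain ⟨m, hm, rfl⟩ := List.mem_map.1 hn
        exact avMasks_xor (h a List.mem_cons_self) (ih' m hm)
  exact key _ fun r hr => List.contains_iff_mem.1 (List.all_eq_true.1 eB_chk r hr)

theorem mem_eL {n : ℕ} : n ∈ eL ↔ n ∈ avMasks := by
  have hsub : eL.toFinset ⊆ avMasks.toFinset := fun a ha => by
    rw [List.mem_toFinset] at ha ⊢
    exact eL_sub a ha
  have h1 := List.toFinset_card_of_nodup (List.Nodup.of_map _ (Leech.Model.noRep_spec _ 0 eL_facts.2).1)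
  have h2 := List.toFinset_card_of_nodup avMasks_facts.2
  rw [eL_facts.1] at h1
  rw [avMasks_facts.1] at h2
  have := Finset.eq_of_subset_of_card_le hsub (by omega)
  rw [← List.mem_toFinset, this, List.mem_toFinset]

/-- The number with given bits. -/
def bitsOf : List Bool → ℕ
  | [] => 0
  | b :: t => (if b then 1 else 0) + 2 * bitsOf t

theorem testBit_bitsOf : ∀ (l : List Bool) (k : ℕ), (bitsOf l).testBit k = l.getD k false
  | [], k => by simp [bitsOf]
  | b :: t, k => by
    cases k with
    | zero => cases b <;> simp [bitsOf, Nat.testBit_zero]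
    | succ k =>
      rw [Nat.testBit_succ, List.getD_cons_succ, ← testBit_bitsOf t k]
      congr 1
      rw [bitsOf]; split <;> omega

/-- A position of a packed permutation. -/
def fld (n j : ℕ) : ℕ := n / 2 ^ (5 * j) % 2 ^ 5

/-- The packed involution. -/
def invP (a : ℕ) : ℕ := FusData.pL.getD (FusData.invI.getD a 0) 0

/-- The product index of two involutions. -/
def prd (a c : ℕ) : ℕ := FusData.prodI.getD a 0 / 2 ^ (7 * c) % 2 ^ 7

/-- The check of a pair of involutions. -/
noncomputable def pairOK (a c : ℕ) : Bool :=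
  force (invP a) fun n => force (invP c) fun m =>
    !((List.range 24).all fun j => Nat.beq (fld m (fld n j)) (fld n (fld m j))) ||
      ((FusData.comD.getD a 0).testBit c && (Nat.beq a c ||
        force (prd a c) fun p => force (invP p) fun r =>
          Nat.blt p 71 && ((List.range 24).all fun j => Nat.beq (fld r j) (fld m (fld n j)))))

theorem pair_chk : ((List.range 71).all fun a => (List.range 71).all fun c => pairOK a c) = true := by
  decide +kernel

/-- A permutation of order at most two is listed. -/
noncomputable def invOK (i : ℕ) : Bool :=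
  force (FusData.pL.getD i 0) fun n =>
    Nat.beq i 0 || !((List.range 24).all fun j => Nat.beq (fld n (fld n j)) j) ||
      FusData.invI.any fun k => Nat.beq k i

theorem inv_chk : ((List.range 256).all invOK) = true ∧
    ((FusData.invI.all fun k => Nat.blt k 256 && !(Nat.beq k 0)) = true) ∧
    FusData.invI.length = 71 := by
  refine ⟨?_, ?_, ?_⟩ <;> decide +kernel

/-- The fixed sign changes of an involution. -/
def fixB (a : ℕ) : ℕ :=
  bitsOf (List.zipWith Nat.beq eL (imL (pP (FusData.invI.getD a 0))))

/-- The zero set of a span, as bits. -/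
noncomputable def fixR : List ℕ → ℕ → ℕ
  | [], x => if Nat.beq x 0 then 1 else 0
  | d :: t, x => fixR t x + 2 ^ 2 ^ t.length * force (x ^^^ d) (fixR t)

theorem bitsOf_append : ∀ l m : List Bool, bitsOf (l ++ m) = bitsOf l + 2 ^ l.length * bitsOf m
  | [], m => by simp [bitsOf]
  | a :: l, m => by
    rw [List.cons_append, bitsOf, bitsOf_append l m, bitsOf, List.length_cons, pow_succ]; ring

theorem spanList_length : ∀ l : List ℕ, (spanList l).length = 2 ^ l.length
  | [] => rfl
  | a :: t => by
    rw [spanList, List.length_append, List.length_map, spanList_length t, List.length_cons, pow_succ]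
    ring

theorem fixR_eq : ∀ (es ps : List ℕ), es.length = ps.length → ∀ x y : ℕ,
    fixR (List.zipWith (· ^^^ ·) es ps) (x ^^^ y) =
      bitsOf (List.zipWith Nat.beq ((spanList es).map (x ^^^ ·)) ((spanList ps).map (y ^^^ ·)))
  | [], [], _, x, y => by
    by_cases h : x = y
    · subst h; simp [fixR, spanList, bitsOf]
    · have h' : x ^^^ y ≠ 0 := fun e => h (Nat.xor_eq_zero_iff.1 e)
      simp [fixR, spanList, bitsOf, h, h']
  | e :: es, q :: ps, hl, x, y => by
    have hl' : es.length = ps.length := by simpa using hl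
    rw [List.zipWith_cons_cons, fixR, force_eq, fixR_eq es ps hl' x y,
      show (x ^^^ y) ^^^ (e ^^^ q) = (x ^^^ e) ^^^ (y ^^^ q) by
        simp [Nat.xor_assoc, Nat.xor_left_comm],
      fixR_eq es ps hl' (x ^^^ e) (y ^^^ q), spanList, spanList, List.map_append, List.map_append,
      List.zipWith_append (by simp [spanList_length, hl']), bitsOf_append, List.map_map, List.map_map,
      show ((fun m => x ^^^ m) ∘ fun m => e ^^^ m) = ((x ^^^ e) ^^^ ·) from
        funext fun m => (Nat.xor_assoc x e m).symm,
      show ((fun m => y ^^^ m) ∘ fun m => q ^^^ m) = ((y ^^^ q) ^^^ ·) from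
        funext fun m => (Nat.xor_assoc y q m).symm]
    simp [spanList_length, hl']

/-- The same, from the basis only. -/
noncomputable def fixC (a : ℕ) : ℕ :=
  fixR (List.zipWith (· ^^^ ·) FusData.eB
    (FusData.eB.map (pmask (pP (FusData.invI.getD a 0))))) 0

theorem fix_chk' : ((List.range 71).all fun a => Nat.beq (FusData.fixD.getD a 0) (fixC a)) = true := by
  decide +kernel

theorem fix_chk : ((List.range 71).all fun a => Nat.beq (FusData.fixD.getD a 0) (fixB a)) = true := by
  refine List.all_eq_true.2 fun a ha => ?_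
  rw [Nat.eq_of_beq_eq_true (List.all_eq_true.1 fix_chk' a ha)]
  have h := fixR_eq FusData.eB (FusData.eB.map (pmask (pP (FusData.invI.getD a 0)))) (by simp) 0 0
  simp only [Nat.xor_self, Nat.zero_xor, List.map_id'] at h
  rw [fixC, h]
  exact Nat.beq_refl _

/-- The number of bits, a bit a step. -/
noncomputable def pop1 : ℕ → ℕ → ℕ
  | 0, _ => 1000000
  | fuel + 1, n => if Nat.beq n 0 then 0 else force (n &&& (n - 1)) fun m => pop1 fuel m + 1

theorem low_bit : ∀ n, n ≠ 0 → ∃ l, ∀ j, j ≠ l → (n &&& (n - 1)).testBit j = n.testBit j := by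
  intro n
  induction n using Nat.strong_induction_on with
  | _ n ih =>
  intro hn
  rcases Nat.mod_two_eq_zero_or_one n with h | h
  · obtain ⟨l, hl⟩ := ih (n / 2) (by omega) (by omega)
    refine ⟨l + 1, fun j hj => ?_⟩
    cases j with
    | zero => rw [Nat.testBit_and, Nat.testBit_zero]; simp [h]
    | succ j =>
      rw [Nat.testBit_and, Nat.testBit_succ, Nat.testBit_succ, show (n - 1) / 2 = n / 2 - 1 by omega,
        ← Nat.testBit_and]
      exact hl j fun e => hj (by rw [e])
  · refine ⟨0, fun j hj => ?_⟩
    cases j with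
    | zero => exact absurd rfl hj
    | succ j =>
      rw [Nat.testBit_and, Nat.testBit_succ, Nat.testBit_succ, show (n - 1) / 2 = n / 2 by omega,
        Bool.and_self]

/-- The number of bits. -/
noncomputable def cnt (n k : ℕ) : ℕ := pop1 (k + 1) n

theorem card_le_cnt {n k : ℕ} (s : Finset ℕ) (hs : ∀ j ∈ s, j < k ∧ n.testBit j = true)
    (hb : k ≤ 1000000 := by norm_num) : s.card ≤ cnt n k := by
  have hk : s.card ≤ k := by
    have := Finset.card_le_card (show s ⊆ Finset.range k from fun j hj => Finset.mem_range.2 (hs j hj).1)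
    rwa [Finset.card_range] at this
  have key : ∀ (fuel n : ℕ) (s : Finset ℕ), s.card ≤ 1000000 → (∀ j ∈ s, n.testBit j = true) →
      s.card ≤ pop1 fuel n := by
    intro fuel
    induction fuel with
    | zero => exact fun n s h _ => h
    | succ fuel ih =>
      intro n s hb hs
      rw [pop1, force_eq]
      split_ifs with hz
      · have hn := Nat.eq_of_beq_eq_true hz
        subst hn
        rw [Finset.card_eq_zero.2 (Finset.eq_empty_of_forall_notMem fun j hj => by
          simpa using hs j hj)]
      · have hn : n ≠ 0 := fun e => hz (by rw [e]; rfl)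
        obtain ⟨l, hl⟩ := low_bit n hn
        have h1 := ih (n &&& (n - 1)) (s.erase l)
          ((Finset.card_le_card (Finset.erase_subset _ _)).trans hb) fun j hj => by
            rw [hl j (Finset.mem_erase.1 hj).1]; exact hs j (Finset.mem_erase.1 hj).2
        have := Finset.pred_card_le_card_erase (a := l) (s := s)
        omega
  exact key _ _ s (hk.trans hb) fun j hj => (hs j hj).2

/-- The span of a set and one element. -/
noncomputable def addSp (c sp : ℕ) : ℕ :=
  (List.range 71).foldl
    (fun acc s => if sp.testBit s && Nat.blt (prd c s) 71 then acc ||| 2 ^ prd c s else acc)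
    (sp ||| 2 ^ c)

/-- The search over elementary subgroups. -/
noncomputable def node : ℕ → ℕ → ℕ → ℕ → ℕ → Bool
  | 0, _, _, _, _ => false
  | fuel + 1, F, C, sp, lo =>
    force (cnt F 1024) fun f =>
      Nat.blt ((cnt C 71 + 1) * f) 1024 || (Nat.blt ((cnt sp 71 + 1) * f) 1024 &&
        (List.range 71).all fun c => !(C.testBit c && Nat.ble lo c && !sp.testBit c) ||
          force (addSp c sp) fun sp' => force (F &&& FusData.fixD.getD c 0) fun F' =>
            force (C &&& FusData.comD.getD c 0) fun C' => node fuel F' C' sp' (c + 1))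

/-- A closed set of commuting involutions. -/
structure Closed (I : Finset ℕ) : Prop where
  lt : ∀ a ∈ I, a < 71
  com : ∀ a ∈ I, ∀ c ∈ I, (FusData.comD.getD a 0).testBit c = true
  mul : ∀ a ∈ I, ∀ c ∈ I, a ≠ c → prd a c ∈ I

/-- The sign changes fixed by all of them. -/
def comFix (I : Finset ℕ) : Finset ℕ :=
  (Finset.range 1024).filter fun k => ∀ a ∈ I, (FusData.fixD.getD a 0).testBit k = true

theorem prd_self : ∀ c, c < 71 → ¬ prd c c < 71 := by decide +kernel

theorem addSp_sub {I : Finset ℕ} (hI : Closed I) {c sp : ℕ} (hc : c ∈ I)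
    (hsp : ∀ a, sp.testBit a = true → a ∈ I) {a : ℕ} (ha : (addSp c sp).testBit a = true) :
    a ∈ I := by
  have key : ∀ (l : List ℕ) (acc : ℕ), (∀ a, acc.testBit a = true → a ∈ I) →
      (l.foldl (fun acc s => if sp.testBit s && Nat.blt (prd c s) 71 then acc ||| 2 ^ prd c s else acc)
        acc).testBit a = true → a ∈ I := by
    intro l
    induction l with
    | nil => exact fun acc h ha => h a ha
    | cons s t ih =>
      intro acc h ha
      refine ih _ (fun b hb => ?_) ha
      simp only [] at hb
      split_ifs at hb with hs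
      · rw [Bool.and_eq_true] at hs
        rw [Nat.testBit_or, Bool.or_eq_true, Nat.testBit_two_pow, decide_eq_true_eq] at hb
        rcases hb with hb | rfl
        · exact h b hb
        · exact hI.mul c hc s (hsp s hs.1) fun e => by
            subst e
            exact prd_self c (hI.lt c hc) (Nat.ble_eq.mp hs.2)
      · exact h b hb
  refine key _ _ (fun b hb => ?_) ha
  rw [Nat.testBit_or, Bool.or_eq_true, Nat.testBit_two_pow, decide_eq_true_eq] at hb
  rcases hb with hb | rfl
  · exact hsp b hb
  · exact hc

theorem node_sound {I : Finset ℕ} (hI : Closed I) : ∀ (fuel F C sp lo : ℕ),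
    node fuel F C sp lo = true → (∀ a, sp.testBit a = true → a ∈ I) →
    (∀ a ∈ I, C.testBit a = true) → (∀ a ∈ I, sp.testBit a = false → lo ≤ a) →
    (∀ k ∈ comFix I, F.testBit k = true) → (I.card + 1) * (comFix I).card < 1024
  | 0, _, _, _, _, h, _, _, _, _ => by simp [node] at h
  | fuel + 1, F, C, sp, lo, h, hsp, hC, hlo, hF => by
    classical
    simp only [node, force_eq, Bool.or_eq_true, Bool.and_eq_true] at h
    have hf : (comFix I).card ≤ cnt F 1024 := card_le_cnt _ fun k hk =>
      ⟨Finset.mem_range.1 (Finset.mem_filter.1 hk).1, hF k hk⟩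
    rcases h with h | ⟨h1, h2⟩
    · refine lt_of_le_of_lt ?_ (Nat.ble_eq.mp h : _ < 1024)
      exact Nat.mul_le_mul (Nat.add_le_add_right (card_le_cnt I fun a ha => ⟨hI.lt a ha, hC a ha⟩) 1) hf
    by_cases hall : ∀ a ∈ I, sp.testBit a = true
    · refine lt_of_le_of_lt ?_ (Nat.ble_eq.mp h1 : _ < 1024)
      exact Nat.mul_le_mul (Nat.add_le_add_right (card_le_cnt I fun a ha => ⟨hI.lt a ha, hall a ha⟩) 1) hf
    push Not at hall
    set J := I.filter fun a => sp.testBit a = false with hJ
    have hJne : J.Nonempty := by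
      obtain ⟨a, ha, hb⟩ := hall
      exact ⟨a, Finset.mem_filter.2 ⟨ha, by simpa using hb⟩⟩
    obtain ⟨hcI, hcs⟩ := Finset.mem_filter.1 (Finset.min'_mem J hJne)
    set c := J.min' hJne
    have h3 := all_range h2 (hI.lt c hcI)
    simp only [Bool.or_eq_true, Bool.not_eq_true', Bool.and_eq_false_iff, hC c hcI, hcs,
      show Nat.ble lo c = true from Nat.ble_eq.mpr (hlo c hcI hcs), Bool.not_false,
      reduceCtorEq, or_self, false_or] at h3
    refine node_sound hI fuel _ _ _ _ h3 (fun a ha => addSp_sub hI hcI hsp ha) (fun a ha => ?_)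
      (fun a ha hn => ?_) (fun k hk => ?_)
    · rw [Nat.testBit_and, hC a ha, hI.com c hcI a ha]; rfl
    · have h4 : sp.testBit a = false ∧ a ≠ c := by
        have keep : ∀ (l : List ℕ) (acc : ℕ), acc.testBit a = true →
            (l.foldl (fun acc s => if sp.testBit s && Nat.blt (prd c s) 71 then acc ||| 2 ^ prd c s
              else acc) acc).testBit a = true := by
          intro l
          induction l with
          | nil => exact fun acc h => h
          | cons s t ih =>
            intro acc h
            refine ih _ ?_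
            simp only []
            split_ifs
            · rw [Nat.testBit_or, h]; rfl
            · exact h
        by_contra hc
        have hh : (addSp c sp).testBit a = true := by
          refine keep _ _ ?_
          rw [Nat.testBit_or, Nat.testBit_two_pow, Bool.or_eq_true, decide_eq_true_eq]
          by_cases hs : sp.testBit a = true
          · exact Or.inl hs
          · exact Or.inr (by_contra fun hne => hc ⟨by simpa using hs, fun e => hne e.symm⟩)
        rw [hh] at hn
        cases hn
      have hle : c ≤ a := Finset.min'_le J a (Finset.mem_filter.2 ⟨ha, h4.1⟩)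
      omega
    · rw [Nat.testBit_and, hF k hk, (Finset.mem_filter.1 hk).2 c hcI]; rfl

/-- The root of the search from the least involution. -/
noncomputable def rootOK (c : ℕ) : Bool :=
  force (FusData.fixD.getD c 0) fun F => force (FusData.comD.getD c 0 / 2 ^ c * 2 ^ c) fun C =>
    force (2 ^ c) fun sp => node 7 F C sp (c + 1)

theorem root_chk : ((List.range 71).all rootOK) = true := by decide +kernel

theorem closed_small {I : Finset ℕ} (hI : Closed I) (hne : I.Nonempty) :
    (I.card + 1) * (comFix I).card < 1024 := by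
  obtain ⟨c, hc, hmin⟩ := Finset.exists_min_image I id hne
  have h := all_range root_chk (hI.lt c hc)
  simp only [rootOK, force_eq] at h
  refine node_sound hI _ _ _ _ _ h (fun a ha => ?_) (fun a ha => ?_) (fun a ha hn => ?_)
    (fun k hk => (Finset.mem_filter.1 hk).2 c hc)
  · rw [Nat.testBit_two_pow, decide_eq_true_eq] at ha; exact ha ▸ hc
  · have hle : c ≤ a := hmin a ha
    rw [Nat.testBit_mul_two_pow, Bool.and_eq_true, decide_eq_true_eq]
    refine ⟨hle, ?_⟩
    rw [Nat.testBit_div_two_pow, Nat.sub_add_cancel hle]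
    exact hI.com c hc a ha
  · have hle : c ≤ a := hmin a ha
    rcases Nat.eq_or_lt_of_le hle with e | e
    · rw [← e, Nat.testBit_two_pow_self] at hn; cases hn
    · omega

theorem pP_getD {i j : ℕ} (hj : j < 24) : (pP i).getD j 0 = fld (FusData.pL.getD i 0) j := by
  rw [pP, unpk, List.getD_eq_getElem _ _ (by simpa using hj)]
  simp [fld]

theorem cmul_fst {a b : Code} {j : ℕ} (hj : j < 24) :
    (cmul a b).1.getD j 0 = b.1.getD (a.1.getD j 0) 0 := by
  show ((List.range 24).map fun j => b.1.getD (a.1.getD j 0) 0).getD j 0 = _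
  rw [List.getD_eq_getElem _ _ (by simpa using hj)]
  simp

theorem real_sgn_mul {m n : ℕ} (hm : m ∈ avMasks) (hn : n ∈ avMasks) :
    sgn m * sgn n = sgn (m ^^^ n) := (sgn_xor (avMasks_spec m hm) (avMasks_spec n hn)).symm

/-- An elementary abelian subgroup of order `1024` of the Sylow subgroup consists of sign changes. -/
theorem eq_sign_of_elementary (A : Subgroup K2) (hA : A ≤ sylM)
    (hc : ∀ a ∈ A, ∀ b ∈ A, a * b = b * a) (h2 : ∀ a ∈ A, a * a = 1) (hcard : 1024 ≤ Nat.card A) :
    ∀ x ∈ A, ∃ n ∈ avMasks, x = sgn n := by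
  classical
  have : Finite K2 := co2_finite
  -- the indices of the involutions occurring
  let I : Finset ℕ := (Finset.range 71).filter fun c =>
    ∃ n ∈ avMasks, el (FusData.invI.getD c 0) n ∈ A
  have hlt : ∀ c, c < 71 → FusData.invI.getD c 0 < 256 ∧ FusData.invI.getD c 0 ≠ 0 := by
    intro c hc
    have hm : c < FusData.invI.length := by rw [inv_chk.2.2]; exact hc
    have := List.all_eq_true.1 inv_chk.2.1 _ (List.getElem_mem hm)
    rw [Bool.and_eq_true, Bool.not_eq_true'] at this
    rw [List.getD_eq_getElem _ _ hm]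
    exact ⟨Nat.ble_eq.mp this.1, fun e => by rw [e] at this; exact Bool.noConfusion this.2⟩
  -- squares
  have hsq : ∀ i n, i < 256 → n ∈ avMasks → el i n ∈ A →
      (∀ j < 24, fld (FusData.pL.getD i 0) (fld (FusData.pL.getD i 0) j) = j) ∧
        pmask (pP i) n = n := by
    intro i n hi hn hx
    obtain ⟨r, o⟩ := el_spec hi hn
    have h := r.mul r o
    rw [h2 _ hx] at h
    have e := h.code_unique real_one (okC_cmul o o) (okC_sC (by norm_num))
    refine ⟨fun j hj => ?_, ?_⟩
    · have := congrArg (fun c : Code => c.1.getD j 0) e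
      simp only [cmul_fst hj, sC, range_getD hj] at this
      rwa [pP_getD hj, pP_getD (show fld _ j < 24 by
        have := o.2.1 j hj; rwa [pP_getD hj] at this)] at this
    · have := congrArg Prod.snd e
      simp only [cmul, sC] at this
      exact (Nat.xor_right_inj.1 (this.trans (Nat.xor_self n).symm) :)
  have hidx : ∀ x ∈ A, ∃ i < 256, ∃ n ∈ avMasks, x = el i n ∧
      (i = 0 ∨ ∃ c ∈ I, i = FusData.invI.getD c 0) := by
    intro x hx
    obtain ⟨i, hi, n, hn, rfl⟩ := hA hx
    refine ⟨i, hi, n, hn, rfl, ?_⟩
    by_cases h0 : i = 0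
    · exact Or.inl h0
    have h := all_range inv_chk.1 hi
    simp only [invOK, force_eq, Bool.or_eq_true, Bool.not_eq_true', List.any_eq_true] at h
    rcases h with (h | h) | ⟨k, hk, hke⟩
    · exact absurd (Nat.eq_of_beq_eq_true h) h0
    · rw [List.all_eq_false] at h
      obtain ⟨j, hj, hne⟩ := h
      exact absurd (by rw [(hsq i n hi hn hx).1 j (List.mem_range.1 hj)]; exact Nat.beq_refl j) hne
    · obtain ⟨c, hc, rfl⟩ := List.getElem_of_mem hk
      have hc71 : c < 71 := by rwa [inv_chk.2.2] at hc
      have e : i = FusData.invI.getD c 0 := by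
        rw [List.getD_eq_getElem _ _ hc]; exact (Nat.eq_of_beq_eq_true hke).symm
      exact Or.inr ⟨c, Finset.mem_filter.2 ⟨Finset.mem_range.2 hc71, n, hn, e ▸ hx⟩, e⟩
  by_contra hne
  push Not at hne
  obtain ⟨x0, hx0, hx0n⟩ := hne
  have hIne : I.Nonempty := by
    obtain ⟨i, hi, n, hn, e, h | ⟨c, hc, -⟩⟩ := hidx x0 hx0
    · exact absurd (e.trans (by rw [h, el_sgn])) (hx0n n hn)
    · exact ⟨c, hc⟩
  have hcomm : ∀ i j n m, i < 256 → j < 256 → n ∈ avMasks → m ∈ avMasks → el i n ∈ A → el j m ∈ A →
      cmul (pP i, n) (pP j, m) = cmul (pP j, m) (pP i, n) := by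
    intro i j n m hi hj hn hm ha hb
    obtain ⟨r, o⟩ := el_spec hi hn
    obtain ⟨r', o'⟩ := el_spec hj hm
    have h1 := r.mul r' o
    rw [hc _ ha _ hb] at h1
    exact h1.code_unique (r'.mul r o') (okC_cmul o o') (okC_cmul o' o)
  have hI : Closed I := by
    have hpair : ∀ a ∈ I, ∀ c ∈ I, (FusData.comD.getD a 0).testBit c = true ∧
        (a ≠ c → prd a c ∈ I) := by
      intro a ha c hc'
      obtain ⟨ha71, n, hn, hna⟩ := Finset.mem_filter.1 ha
      obtain ⟨hc71, m, hm, hmc⟩ := Finset.mem_filter.1 hc'
      rw [Finset.mem_range] at ha71 hc71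
      obtain ⟨hia, -⟩ := hlt a ha71
      obtain ⟨hic, -⟩ := hlt c hc71
      have h := all_range (all_range pair_chk ha71) hc71
      simp only [pairOK, force_eq, Bool.or_eq_true, Bool.not_eq_true', Bool.and_eq_true] at h
      have oa := (el_spec hia hn).2.2.1
      have oc := (el_spec hic hm).2.2.1
      rcases h with h | ⟨h1, h2'⟩
      · rw [List.all_eq_false] at h
        obtain ⟨j, hj, hne'⟩ := h
        rw [List.mem_range] at hj
        refine absurd ?_ hne'
        have e := congrArg (fun q : Code => q.1.getD j 0) (hcomm _ _ n m hia hic hn hm hna hmc)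
        simp only [cmul_fst hj] at e
        have la := oa j hj
        have lc := oc j hj
        simp only [pP_getD hj] at e la lc
        rw [pP_getD la, pP_getD lc] at e
        rw [show invP a = FusData.pL.getD (FusData.invI.getD a 0) 0 from rfl,
          show invP c = FusData.pL.getD (FusData.invI.getD c 0) 0 from rfl, e]
        exact Nat.beq_refl _
      · refine ⟨h1, fun hac => ?_⟩
        rcases h2' with h2' | ⟨h3, h4⟩
        · exact absurd (Nat.eq_of_beq_eq_true h2') hac
        have hp : prd a c < 71 := Nat.ble_eq.mp h3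
        obtain ⟨hip, -⟩ := hlt _ hp
        obtain ⟨k, hk, l, hl, he⟩ := el_mul hia hic hn hm
        refine Finset.mem_filter.2 ⟨Finset.mem_range.2 hp, l, hl, ?_⟩
        obtain ⟨ra, oa'⟩ := el_spec hia hn
        have e := congrArg Prod.fst ((he ▸ ra.mul (el_spec hic hm).1 oa' :
            Real (el k l) _).code_unique (el_spec hk hl).1 (okC_cmul oa' (el_spec hic hm).2)
          (el_spec hk hl).2)
        have hkp : k = FusData.invI.getD (prd a c) 0 := by
          have h5 := pP_inj ⟨k, hk⟩ ⟨_, hip⟩ (by
            rw [← pack_chk, ← pack_chk]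
            refine congrArg pack5 ?_
            refine List.ext_getElem (by simp [pP, unpk]) fun j j1 j2 => ?_
            have hj : j < 24 := by simpa [pP, unpk] using j1
            rw [← List.getD_eq_getElem _ 0 j1, ← List.getD_eq_getElem _ 0 j2]
            show (pP k).getD j 0 = (pP (FusData.invI.getD (prd a c) 0)).getD j 0
            rw [← show (cmul (pP (FusData.invI.getD a 0), n) (pP (FusData.invI.getD c 0), m)).1 =
              pP k from e, cmul_fst hj, pP_getD hj]
            have la := oa j hj
            simp only [pP_getD hj] at la ⊢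
            rw [pP_getD la]
            exact (Nat.eq_of_beq_eq_true (all_range h4 hj)).symm)
          exact congrArg Fin.val h5
        rw [← hkp, ← he]
        exact A.mul_mem hna hmc
    exact ⟨fun a ha => Finset.mem_range.1 (Finset.mem_filter.1 ha).1,
      fun a ha c hc' => (hpair a ha c hc').1, fun a ha c hc' hac => (hpair a ha c hc').2 hac⟩
  have hlt' := closed_small hI hIne
  -- a base mask for each permutation
  let base : ℕ → ℕ := fun i => if h : ∃ n ∈ avMasks, el i n ∈ A then h.choose else 0
  have hbase : ∀ i, (∃ n ∈ avMasks, el i n ∈ A) → base i ∈ avMasks ∧ el i (base i) ∈ A := fun i h => by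
    simp only [base, dif_pos h]; exact h.choose_spec
  have hmap : ∀ x : A, ∃ p : Option I × comFix I, ∃ i < 256, ∃ n ∈ avMasks,
      (x : K2) = el i n ∧ (p.2 : ℕ) = eL.idxOf (n ^^^ base i) ∧
      i = p.1.elim 0 (fun c => FusData.invI.getD (c : ℕ) 0) := by
    intro x
    obtain ⟨i, hi, n, hn, e, hcase⟩ := hidx x x.2
    have hb := hbase i ⟨n, hn, e ▸ x.2⟩
    have hd : n ^^^ base i ∈ avMasks := avMasks_xor hn hb.1
    have hprod : (x : K2) * el i (base i) = sgn (n ^^^ base i) := by
      obtain ⟨r, o⟩ := el_spec hi hn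
      obtain ⟨r', o'⟩ := el_spec hi hb.1
      rw [e]
      refine (r.mul r' o).unique ?_
      have hs := hsq i (base i) hi hb.1 hb.2
      have ec : cmul (pP i, n) (pP i, base i) = sC (n ^^^ base i) := by
        refine Prod.ext (List.ext_getElem (by simp [cmul, sC]) fun j j1 j2 => ?_) ?_
        · have hj : j < 24 := by simpa [cmul] using j1
          rw [← List.getD_eq_getElem _ 0 j1, ← List.getD_eq_getElem _ 0 j2, cmul_fst hj]
          show _ = (List.range 24).getD j 0
          have hl : fld (FusData.pL.getD i 0) j < 24 := by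
            have := o.2.1 j hj; rwa [pP_getD hj] at this
          rw [range_getD hj, pP_getD hj, pP_getD hl]
          exact hs.1 j hj
        · show n ^^^ pmask (pP i) (base i) = n ^^^ base i
          rw [hs.2]
      rw [ec]; exact real_av hd
    have hfix : eL.idxOf (n ^^^ base i) ∈ comFix I := by
      have hk : eL.idxOf (n ^^^ base i) < 1024 := eL_facts.1 ▸
        List.idxOf_lt_length_of_mem (mem_eL.2 hd)
      refine Finset.mem_filter.2 ⟨Finset.mem_range.2 hk, fun c hc' => ?_⟩
      obtain ⟨hc71, m, hm, hmc⟩ := Finset.mem_filter.1 hc'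
      rw [Finset.mem_range] at hc71
      obtain ⟨hic, -⟩ := hlt c hc71
      have hdA : el 0 (n ^^^ base i) ∈ A := by rw [el_sgn, ← hprod]; exact A.mul_mem x.2 hb.2
      have he := congrArg Prod.snd (hcomm 0 _ _ _ (by norm_num) hic hd hm hdA hmc)
      simp only [cmul] at he
      rw [p_lengths.2.2.1] at he
      have e1 : pmask (List.range 24) m = m :=
        Nat.eq_of_testBit_eq fun j => by
          by_cases hj : j < 24
          · rw [testBit_pmask _ _ hj, range_getD hj]
          · have hp : (2 : ℕ) ^ 24 ≤ 2 ^ j := Nat.pow_le_pow_right (by norm_num) (by omega)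
            rw [Nat.testBit_lt_two_pow ((pmask_lt _ _).trans_le hp),
              Nat.testBit_lt_two_pow ((avMasks_lt hm).trans_le hp)]
      rw [e1, Nat.xor_comm (n ^^^ base i) m] at he
      rw [Nat.eq_of_beq_eq_true (all_range fix_chk hc71), fixB, testBit_bitsOf,
        List.getD_eq_getElem _ _ (by simp [imL_eq, eL_facts.1, hk])]
      simp only [List.getElem_zipWith, imL_eq, List.getElem_map, List.getElem_idxOf]
      rw [← Nat.xor_right_inj.1 he]
      exact Nat.beq_refl _
    rcases hcase with h | ⟨c, hc', h⟩
    · exact ⟨(none, ⟨_, hfix⟩), i, hi, n, hn, e, rfl, h⟩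
    · exact ⟨(some ⟨c, hc'⟩, ⟨_, hfix⟩), i, hi, n, hn, e, rfl, h⟩
  choose f hf using hmap
  have hfi : Function.Injective f := by
    intro x y hxy
    obtain ⟨i, hi, n, hn, ex, px, pi⟩ := hf x
    obtain ⟨j, hj, m, hm, ey, py, pj⟩ := hf y
    rw [hxy] at px pi
    obtain rfl : i = j := pi.trans pj.symm
    have hb := hbase i ⟨n, hn, ex ▸ x.2⟩
    have e : n ^^^ base i = m ^^^ base i :=
      (List.idxOf_inj (mem_eL.2 (avMasks_xor hn hb.1))).1 (px.symm.trans py)
    apply Subtype.ext
    rw [ex, ey, Nat.xor_left_inj.1 e]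
  have := Nat.card_le_card_of_injective f hfi
  rw [Nat.card_prod, Finite.card_option, Nat.card_eq_finsetCard, Nat.card_eq_finsetCard] at this
  omega

theorem centre_chk :
    ((List.range 256).all fun i => Nat.beq i 0 ||
      !(FusData.eB.all fun e => Nat.beq (pmask (pP i) e) e)) = true ∧
    (avMasks.all fun n => Nat.beq n 0 || Nat.beq n Data.zm ||
      !(FusData.gP.all fun P => Nat.beq (pmask P n) n)) = true := by
  refine ⟨?_, ?_⟩ <;> decide +kernel

/-- The centre of the Sylow subgroup. -/
theorem sylM_center {x : K2} (hx : x ∈ sylM) (h : ∀ y ∈ sylM, x * y = y * x) : x = 1 ∨ x = z0 := by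
  obtain ⟨i, hi, n, hn, rfl⟩ := hx
  have hi0 : i = 0 := by
    have h1 := all_range centre_chk.1 hi
    simp only [Bool.or_eq_true, Bool.not_eq_true'] at h1
    rcases h1 with h1 | h1
    · exact Nat.eq_of_beq_eq_true h1
    · rw [List.all_eq_false] at h1
      obtain ⟨e, he, hne⟩ := h1
      have hem : e ∈ avMasks := by
        have : (FusData.eB.all fun n => avMasks.contains n) = true := by decide +kernel
        exact List.contains_iff_mem.1 (List.all_eq_true.1 this e he)
      obtain ⟨r, o, hK⟩ := elP_spec hi
      obtain ⟨hm, hc⟩ := pmask_mem r o hK hem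
      refine absurd ?_ hne
      have h2 : el i n * sgn e = sgn e * el i n := by
        have := h _ (el_mem (show (0 : ℕ) < 256 by norm_num) hem)
        rwa [el_sgn] at this
      have h3 : sgn (pmask (pP i) e) = sgn e := by
        rw [← hc]
        have h4 : Commute (sgn n) (sgn e) := sgn_comm (avMasks_spec n hn) (avMasks_spec e hem)
        calc elP i * sgn e * (elP i)⁻¹ = (sgn n)⁻¹ * (el i n * sgn e) * (elP i)⁻¹ := by rw [el]; group
          _ = (sgn n)⁻¹ * (sgn e * sgn n) := by rw [h2, el]; group
          _ = sgn e := by rw [← h4.eq]; group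
      rw [sgn_inj hm hem h3]
      exact Nat.beq_refl e
  subst hi0
  rw [el_sgn] at h ⊢
  have h1 := List.all_eq_true.1 centre_chk.2 n hn
  simp only [Bool.or_eq_true, Bool.not_eq_true'] at h1
  rcases h1 with (h1 | h1) | h1
  · exact Or.inl (by rw [Nat.eq_of_beq_eq_true h1, sgn_zero])
  · exact Or.inr (by rw [Nat.eq_of_beq_eq_true h1]; exact sgn_zm)
  · rw [List.all_eq_false] at h1
    obtain ⟨P, hP, hne⟩ := h1
    obtain ⟨a, ha, rfl⟩ := List.getElem_of_mem hP
    have ha4 : a < 4 := by
      have : FusData.gP.length = 4 := by decide +kernel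
      omega
    obtain ⟨r, o, hK⟩ := gEl_spec ha4
    have eP : FusData.gP.getD a [] = FusData.gP[a] := List.getD_eq_getElem _ _ ha
    obtain ⟨hm, hc⟩ := pmask_mem r o hK hn
    have hg : gEl a ∈ sylM := by
      have key : ∀ a : Fin 4, (List.range 256).any (fun i => eqC (gCode a) (pP i, 0)) = true := by
        decide +kernel
      obtain ⟨i, hi', he⟩ := List.any_eq_true.1 (key ⟨a, ha4⟩)
      rw [show gEl a = el i 0 from
        eq_el (List.mem_range.1 hi') mask_zero r (eq_of_eqC he)]
      exact el_mem (List.mem_range.1 hi') mask_zero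
    refine absurd ?_ hne
    have eP' := congrArg (fun P => pmask P n) eP
    refine (congrArg (fun m => Nat.beq m n) eP').symm.trans ?_
    rw [← h _ hg, mul_inv_cancel_right] at hc
    rw [← sgn_inj hn hm hc]
    exact Nat.beq_refl n

/-- The order of the centraliser. -/
theorem card_C1 : Nat.card C1 = 2 ^ 18 * 2835 := by
  rw [Nat.card_congr S2136.centEquiv.toEquiv, Leech.CentTwo.counts.2.1]
  norm_num

/-- Two-subgroups of the centraliser are conjugate into the Sylow subgroup. -/
theorem conj_into_sylM (T : Subgroup K2) (hT : T ≤ C1) (h2 : IsPGroup 2 T) :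
    ∃ k ∈ C1, ∀ x ∈ T, k * x * k⁻¹ ∈ sylM := by
  classical
  have : Finite K2 := co2_finite
  have : Fact (Nat.Prime 2) := ⟨Nat.prime_two⟩
  have hf : (Nat.card C1).factorization 2 = 18 := by
    rw [card_C1, Nat.factorization_mul (by norm_num) (by norm_num), Finsupp.add_apply,
      Nat.prime_two.factorization_pow, Finsupp.single_eq_same,
      Nat.factorization_eq_zero_of_not_dvd (by norm_num)]
  let P : Sylow 2 C1 := Sylow.ofCard (sylM.subgroupOf C1) (by
    rw [Nat.card_congr (Subgroup.subgroupOfEquivOfLe sylM_le).toEquiv, card_sylM, hf])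
  have h2' : IsPGroup 2 (T.subgroupOf C1) :=
    h2.of_equiv (Subgroup.subgroupOfEquivOfLe hT).symm
  obtain ⟨R, hR⟩ := h2'.exists_le_sylow
  obtain ⟨k, hk⟩ := MulAction.exists_smul_eq C1 R P
  refine ⟨k, k.2, fun x hx => ?_⟩
  have hxR : (⟨x, hT hx⟩ : C1) ∈ (R : Subgroup C1) := hR hx
  have : k * ⟨x, hT hx⟩ * k⁻¹ ∈ (P : Subgroup C1) := by
    rw [← hk, Sylow.coe_subgroup_smul, Subgroup.mem_pointwise_smul_iff_inv_smul_mem,
      MulAut.smul_def, ← map_inv, MulAut.conj_apply, inv_inv]
    convert hxR using 1
    group
  exact this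

end Cfsg.Agent.CoTwoUniq.Fus
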