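import Cfsg.Agent.CoTwoUniq.Fusion.Oct
import Cfsg.Agent.CoTwoUniq.Fusion.Uniq

/-!
The finite checks on the representatives of the involutions of the Sylow subgroup and on the keys.
-/

set_option autoImplicit false
set_option maxRecDepth 100000
set_option Elab.async false

open Cfsg

namespace Cfsg.Agent.CoTwoUniq.Fus

open Cfsg.Agent.Leech (spanList ptOf toL oct)
open Cfsg.Agent.Leech.CentTwo (octL)
open CosetCert (force force_eq)

/-- The code of an index and a mask. -/
def cd (a : ℕ × ℕ) : Code := (pP a.1, a.2)

/-- The preimage of a position. -/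
noncomputable def pk5 (i : ℕ) : ℕ := FusData.pL.getD i 0

/-- The basic words as a list. -/
def rowsL : List ℕ := [13062145, 4845570, 9691140, 7221256, 14442512, 15806496, 11243584, 2019456,
  4038912, 8077824, 16155648, 10811392]

/-- Membership of a mask, by its first twelve bits. -/
noncomputable def memE (n : ℕ) : Bool :=
  Nat.beq (n % 4) 0 &&
    Nat.beq ((List.range 10).foldr
      (fun j acc => if n.testBit (j + 2) then rowsL.getD (j + 2) 0 ^^^ acc else acc) 0) n

/-- A listed element. -/
noncomputable def okPair (a : ℕ × ℕ) : Bool := Nat.blt a.1 256 && memE a.2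

/-- Equality of two products. -/
noncomputable def mulEq (a b c d : ℕ × ℕ) : Bool :=
  force (pk5 a.1) fun p => force (pk5 b.1) fun q => force (pk5 c.1) fun r => force (pk5 d.1) fun s =>
    (List.range 24).all fun j =>
      Nat.beq (fld q (fld p j)) (fld s (fld r j)) &&
        ((a.2.testBit j != b.2.testBit (fld p j)) == (c.2.testBit j != d.2.testBit (fld r j)))

/-- The conjugate of `x` by `q` is `x * c`. -/
noncomputable def conjEq (q x c : ℕ × ℕ) : Bool :=
  force (pk5 q.1) fun Q => force (pk5 x.1) fun X => force (pk5 c.1) fun R =>
    (List.range 24).all fun j =>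
      Nat.beq (fld X (fld Q j)) (fld Q (fld R (fld X j))) &&
        ((q.2.testBit j != x.2.testBit (fld Q j)) ==
          ((x.2.testBit j != c.2.testBit (fld X j)) != q.2.testBit (fld R (fld X j))))

/-- The key is trivial. -/
noncomputable def keyOne (a : ℕ × ℕ) : Bool :=
  force (pk5 a.1) fun p => octL.all fun j => Nat.beq (fld p j) j && !(a.2.testBit j)

/-- Two keys are equal. -/
noncomputable def keySame (a b : ℕ × ℕ) : Bool :=
  force (pk5 a.1) fun p => force (pk5 b.1) fun q =>
    octL.all fun j => Nat.beq (fld p j) (fld q j) && (a.2.testBit j == b.2.testBit j)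

/-- The key is listed. -/
noncomputable def inKeys (a : ℕ × ℕ) : Bool := FusData.kRep.any fun b => keySame a b

/-- The trace of the product with the marked involution is five. -/
noncomputable def trFive (a : ℕ × ℕ) : Bool :=
  decide (trCode (pP a.1, Data.zm ^^^ a.2) = 5)

/-- A coordinate of a packed vector. -/
def fld9 (n j : ℕ) : ℕ := n / 2 ^ (9 * j) % 2 ^ 9

/-- The coordinates of a packed vector. -/
def decC (n : ℕ) : List ℤ := (List.range 24).map fun j => (fld9 n j : ℤ) - 256

/-- The steps along a word. -/
noncomputable def stepsOK (i : ℕ) : List ℕ → List ℕ → Bool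
  | [], [] => true
  | [a], [n] => Leech.Model.eqZ
      ((qG a).f (toL ((oct (ptOf i) : leechLattice) : GolayPt → ℤ))) (decC n)
  | a :: b :: t, n :: m :: r =>
    force m fun m' => Leech.Model.eqZ ((qG a).f (decC m')) (decC n) && stepsOK i (b :: t) (m :: r)
  | _, _ => false

/-- The images of the frame along a word. -/
noncomputable def wordOK (k : ℕ) : Bool :=
  ((FusData.wordL.getD k []).all fun a => Nat.blt a 4) && !(FusData.wordL.getD k []).isEmpty &&
    (List.range 24).all fun i =>
      stepsOK i (FusData.wordL.getD k []) ((FusData.wSteps.getD k []).getD i [])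

/-- A good representative. -/
noncomputable def repGOK (q : ℕ) : Bool :=
  force (FusData.repGW.getD q 0) fun k =>
    force (FusData.reps0.getD (FusData.repG.getD q (0, 0, [], 0)).1 0) fun i =>
    force (FusData.repG.getD q (0, 0, [], 0)).2.1 fun n =>
    force (FusData.repG.getD q (0, 0, [], 0)).2.2.2 fun m =>
      okPair (i, n) && memE m && Nat.blt k 11 &&
      (keyOne (i, n) || !(trFive (i, n)) || inKeys (i, n)) &&
      force (pk5 i) fun p => (List.range 24).all fun c =>
        force (((FusData.wSteps.getD k []).getD c []).headD 0) fun v =>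
          (List.range 24).all fun j =>
            force (fld9 v (fld p j)) fun w => force (fld9 v j) fun u =>
              if n.testBit j != m.testBit c then Nat.beq (w + u) 512 else Nat.beq w u

/-- Another representative, with sixteen centralising elements and their conjugators. -/
noncomputable def repBOK (e : ℕ × ℕ × List (ℕ × ℕ) × List (ℕ × ℕ)) : Bool :=
  force (FusData.reps0.getD e.1 0) fun i =>
    okPair (i, e.2.1) && inKeys (i, e.2.1) && Nat.beq e.2.2.1.length 16 && mulEq (0, 0) (0, 0) (e.2.2.1.getD 0 (0, 0)) (0, 0) &&
      diffL (e.2.2.1.map fun c => c.1 * 2 ^ 24 + c.2) &&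
      ((List.range 16).all fun a =>
        okPair (e.2.2.1.getD a (0, 0)) && okPair (e.2.2.2.getD a (0, 0)) &&
          conjEq (e.2.2.2.getD a (0, 0)) (i, e.2.1) (e.2.2.1.getD a (0, 0))) &&
      (List.range 4).all fun t =>
        force (2 ^ t) fun b =>
          keyOne (e.2.2.1.getD b (0, 0)) &&
          mulEq (e.2.2.1.getD b (0, 0)) (i, e.2.1) (i, e.2.1) (e.2.2.1.getD b (0, 0)) &&
          mulEq (e.2.2.1.getD b (0, 0)) (e.2.2.1.getD b (0, 0)) (0, 0) (0, 0) &&
          ((List.range 16).all fun a =>
            mulEq (e.2.2.1.getD a (0, 0)) (e.2.2.1.getD b (0, 0))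
              (e.2.2.1.getD (a ^^^ b) (0, 0)) (0, 0)) &&
          (List.range 4).all fun u =>
            mulEq (e.2.2.1.getD b (0, 0)) (e.2.2.1.getD (2 ^ u) (0, 0))
              (e.2.2.1.getD (2 ^ u) (0, 0)) (e.2.2.1.getD b (0, 0))

theorem word_0 : ((List.range 6).all wordOK) = true := by decide +kernel

theorem word_1 : ((List.range 5).all fun k => wordOK (k + 6)) = true := by decide +kernel

theorem repG_0 : ((List.range 25).all repGOK) = true := by decide +kernel

theorem repG_1 : ((List.range 25).all fun q => repGOK (q + 25)) = true := by decide +kernel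

theorem repG_length : FusData.repG.length = 50 ∧ FusData.repB.length = 46 := by
  refine ⟨?_, ?_⟩ <;> decide +kernel

theorem repB_0 : ((FusData.repB.take 12).all repBOK) = true := by decide +kernel

theorem repB_1 : (((FusData.repB.drop 12).take 12).all repBOK) = true := by decide +kernel

theorem repB_2 : (((FusData.repB.drop 24).take 12).all repBOK) = true := by decide +kernel

theorem repB_3 : ((FusData.repB.drop 36).all repBOK) = true := by decide +kernel

/-- A permutation class. -/
noncomputable def clsOK (c : ℕ) : Bool :=
  force (FusData.clsI.getD c (0, 0)).1 fun k => force (FusData.clsI.getD c (0, 0)).2 fun r =>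
    Nat.blt k 256 && Nat.blt r 15 &&
      mulEq (k, 0) (FusData.invI.getD c 0, 0) (FusData.reps0.getD r 0, 0) (k, 0)

theorem cls_chk : ((List.range 71).all clsOK) = true := by decide +kernel

/-- The keys of a list of numbers, folded one by one. -/
noncomputable def keySetF : List ℕ → ℕ → ℕ
  | [], acc => acc
  | a :: t, acc => force (acc ||| 2 ^ (a % 4096)) fun acc' => keySetF t acc'

/-- The representatives over one permutation. -/
def repsOf (r : ℕ) : List ℕ :=
  ((FusData.repG.filter fun e => Nat.beq e.1 r).map fun e => e.2.1) ++
    ((FusData.repB.filter fun e => Nat.beq e.1 r).map fun e => e.2.1)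

/-- The fixed sign changes over a representative permutation are covered. -/
noncomputable def covOK (r : ℕ) : Bool :=
  force (FusData.reps0.getD r 0) fun i =>
    (Nat.blt i 256 && FusData.invI.any fun k => Nat.beq k i) &&
    force (fixR (List.zipWith (· ^^^ ·) FusData.eB (FusData.eB.map (pmask (pP i)))) 0) fun F =>
      force (keySetF (spanList (FusData.eB.map fun e => e ^^^ pmask (pP i) e)) 0) fun im =>
        (List.range 1024).all fun k => !(F.testBit k) ||
          force (eL.getD k 0) fun n =>
            (repsOf r).any fun m => im.testBit ((n ^^^ m) % 4096)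

theorem cov_0 : ((List.range 5).all covOK) = true := by decide +kernel

theorem cov_1 : ((List.range 5).all fun r => covOK (r + 5)) = true := by decide +kernel

theorem cov_2 : ((List.range 5).all fun r => covOK (r + 10)) = true := by decide +kernel

/-- The sign changes of weight sixteen meeting the octad have listed keys. -/
noncomputable def signKeyOK (n : ℕ) : Bool :=
  (octL.all fun j => !(n.testBit j)) || !(Nat.beq (pop (n ^^^ Data.zm)) 16) || inKeys (0, n)

theorem signKey_chk : (avMasks.all signKeyOK) = true := by decide +kernel

/-- The generators of the Sylow subgroup on the positions of the octad. -/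
noncomputable def genP8 (a j : ℕ) : ℕ := if Nat.blt a 4 then (FusData.gP.getD a []).getD j 0 else j

/-- Their signs. -/
noncomputable def genM8 (a : ℕ) : ℕ := if Nat.blt a 4 then 0 else FusData.eB.getD (a - 4) 0

/-- A key and its conjugate under a generator. -/
noncomputable def kConjOK (k : ℕ) : Bool :=
  force (FusData.kRep.getD k (0, 0)).2 fun n => force (pk5 (FusData.kRep.getD k (0, 0)).1) fun p =>
    okPair (FusData.kRep.getD k (0, 0)) && (List.range 14).all fun a =>
      force (FusData.kConj.getD k 0 / 2 ^ (7 * a) % 2 ^ 7) fun k' =>
        force (FusData.kRep.getD k' (0, 0)).2 fun n' => force (pk5 (FusData.kRep.getD k' (0, 0)).1) fun p' =>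
          force (genM8 a) fun g =>
            Nat.blt k' 102 && octL.all fun j =>
              force (genP8 a j) fun gj => force (fld p' j) fun pj =>
                Nat.beq (fld p gj) (genP8 a pj) &&
                  ((g.testBit j != n.testBit gj) == (n'.testBit j != g.testBit pj))

theorem kConj_chk : ((List.range 102).all kConjOK) = true := by decide +kernel

/-- The number of a key. -/
noncomputable def knum (p n : ℕ) : ℕ :=
  octL.foldr (fun j acc => (fld p j * 2 + if n.testBit j then 1 else 0) + 64 * acc) 0

/-- The number of the key of a product, on the octad. -/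
noncomputable def knum2 (p n q m : ℕ) : ℕ :=
  octL.foldr (fun j acc => (fld q (fld p j) * 2 +
    if n.testBit j != m.testBit (fld p j) then 1 else 0) + 64 * acc) 0

/-- The numbers of the keys. -/
noncomputable def knums : List ℕ := FusData.kRep.map fun b => knum (pk5 b.1) b.2

/-- Their residues. -/
noncomputable def khash : ℕ := knums.foldr (fun k acc => acc ||| 2 ^ (k % 8191)) 0

/-- The product table of keys. -/
def kT (i j : ℕ) : ℕ := FusData.kTab.getD i 0 / 2 ^ (7 * j) % 2 ^ 7

/-- A row of the product table. -/
noncomputable def kTabOK (i : ℕ) : Bool :=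
  force khash fun h => force (FusData.kRep.getD i (0, 0)).2 fun n =>
    force (pk5 (FusData.kRep.getD i (0, 0)).1) fun p => force (FusData.kTab.getD i 0) fun row =>
      (List.range 102).all fun j => Nat.beq i j ||
        force (row / 2 ^ (7 * j) % 2 ^ 7) fun t =>
          force (knum2 p n (pk5 (FusData.kRep.getD j (0, 0)).1) (FusData.kRep.getD j (0, 0)).2) fun w =>
            if Nat.blt t 102 then Nat.beq w (knums.getD t 0) else !(h.testBit (w % 8191))

theorem kTab_0 : ((List.range 34).all kTabOK) = true := by decide +kernel

theorem kTab_1 : ((List.range 34).all fun i => kTabOK (i + 34)) = true := by decide +kernel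

theorem kTab_2 : ((List.range 34).all fun i => kTabOK (i + 68)) = true := by decide +kernel

theorem knums_diff : diffL knums = true ∧ FusData.kRep.length = 102 := by
  refine ⟨?_, ?_⟩ <;> decide +kernel

/-- No elementary group of order sixteen has all its keys listed. -/
noncomputable def pureOK (i : ℕ) : Bool :=
  (List.range 102).all fun j => !(Nat.blt i j) || force (kT i j) fun p => !(Nat.blt p 102) ||
    (List.range 102).all fun k => !(Nat.blt j k) || Nat.beq k p ||
      force (kT i k) fun a => force (kT j k) fun b => force (kT p k) fun c =>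
        !(Nat.blt a 102 && Nat.blt b 102 && Nat.blt c 102) ||
          (List.range 102).all fun l => !(Nat.blt k l) || Nat.beq l p || Nat.beq l a || Nat.beq l b ||
            Nat.beq l c || !(Nat.blt (kT i l) 102 && Nat.blt (kT j l) 102 && Nat.blt (kT p l) 102 &&
              Nat.blt (kT k l) 102 && Nat.blt (kT a l) 102 && Nat.blt (kT b l) 102 &&
              Nat.blt (kT c l) 102)

theorem pure_0 : ((List.range 51).all pureOK) = true := by decide +kernel

theorem pure_1 : ((List.range 51).all fun i => pureOK (i + 51)) = true := by decide +kernel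

end Cfsg.Agent.CoTwoUniq.Fus
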