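import Cfsg.Agent.CoTwoUniq.Fusion.Syl
import Cfsg.Agent.Leech.CentTwoQuot

/-!
The action of the centraliser on the lattice vectors supported on the octad, and the elements
leading out of the monomial group.
-/

set_option autoImplicit false
set_option maxRecDepth 100000

open Cfsg

namespace Cfsg.Agent.CoTwoUniq.Fus

open Cfsg.Agent.Leech (bitWord idx ptOf toL oct LGen)
open Cfsg.Agent.Leech.CentTwo (tGen octF octL)

theorem inc_z0 : inc z0 = tGen.g := rfl

theorem C1_comm {x : K2} (hx : x ∈ C1) : inc x * tGen.g = tGen.g * inc x := by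
  rw [← inc_z0, ← map_mul, ← map_mul]
  exact congrArg inc (Subgroup.mem_centralizer_singleton_iff.1 hx)

theorem C1_fixed {x : K2} (hx : x ∈ C1) {v : leechLattice} (hv : tGen.g • v = v) :
    tGen.g • (inc x • v) = inc x • v := by
  rw [← mul_smul, ← C1_comm hx, mul_smul, hv]

theorem octL_iff : ∀ p : GolayPt, p ∈ octF ↔ idx p ∈ octL := by decide +kernel

theorem octL_lt : ∀ j ∈ octL, j < 24 := by decide

theorem oct_fixed {j : ℕ} (hj : j ∈ octL) : tGen.g • oct (ptOf j) = oct (ptOf j) := by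
  refine (Leech.CentTwo.fixed_iff _).2 fun p hp => ?_
  show (Pi.single (ptOf j) (8 : ℤ) : GolayPt → ℤ) p = 0
  rw [Pi.single_apply, if_neg]
  rintro rfl
  exact hp ((octL_iff _).2 (by rw [Leech.idx_ptOf j (octL_lt j hj)]; exact hj))

/-- Equal action on the vectors supported on the octad. -/
def EqO (x y : K2) : Prop := ∀ v : leechLattice, tGen.g • v = v → inc x • v = inc y • v

theorem EqO.mul {a b x y : K2} (h : EqO a x) (h' : EqO b y) (hy : y ∈ C1) :
    EqO (a * b) (x * y) := fun v hv => by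
  rw [map_mul, map_mul, mul_smul, mul_smul, h' v hv, h _ (C1_fixed hy hv)]

theorem EqO.trans {x y w : K2} (h : EqO x y) (h' : EqO y w) : EqO x w :=
  fun v hv => (h v hv).trans (h' v hv)

theorem EqO.symm {x y : K2} (h : EqO x y) : EqO y x := fun v hv => (h v hv).symm

theorem EqO.refl (x : K2) : EqO x x := fun _ _ => rfl

/-- The elements of the centraliser fixing those vectors. -/
noncomputable def Q1 : Subgroup K2 where
  carrier := {x | x ∈ C1 ∧ EqO x 1}
  one_mem' := ⟨one_mem C1, EqO.refl 1⟩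
  mul_mem' := fun {a b} ha hb => ⟨mul_mem ha.1 hb.1, by
    have h := ha.2.mul hb.2 (one_mem C1); rwa [mul_one] at h⟩
  inv_mem' := fun {a} ha => ⟨inv_mem ha.1, fun v hv => by
    conv_lhs => rw [show v = inc (1 : K2) • v by rw [map_one, one_smul], ← ha.2 v hv]
    rw [← mul_smul, map_inv, inv_mul_cancel, map_one]⟩

theorem Q1_le : Q1 ≤ C1 := fun _ h => h.1

theorem Q1_conj {k x : K2} (hk : k ∈ C1) (hx : x ∈ Q1) : k * x * k⁻¹ ∈ Q1 := by
  refine ⟨mul_mem (mul_mem hk hx.1) (inv_mem hk), fun v hv => ?_⟩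
  rw [map_mul, map_mul, mul_smul, mul_smul, hx.2 _ (C1_fixed (inv_mem hk) hv), map_one, one_smul,
    one_smul, map_inv, smul_inv_smul]

/-- They lie in the largest normal two-subgroup. -/
theorem Q1_le_pCore {x : K2} (hx : x ∈ Q1) :
    (⟨x, hx.1⟩ : ↥C1) ∈ pCore 2 ↥C1 := by
  have hmap := (Core.map_pCore S2136.centEquiv).trans Leech.CentTwo.pCore_CT
  have hk : S2136.centEquiv ⟨x, hx.1⟩ ∈ Leech.CentTwo.act.ker := by
    refine MonoidHom.mem_ker.2 (Equiv.ext fun j => ?_)
    refine Leech.CentTwo.actFun_eq _ j j (Or.inl ?_)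
    have h := hx.2 _ (Leech.CentTwo.pA_mem j).1
    rw [map_one, one_smul] at h
    exact h
  rw [← hmap] at hk
  obtain ⟨y, hy, hye⟩ := hk
  rwa [show y = ⟨x, hx.1⟩ from S2136.centEquiv.injective hye] at hy

/-- The key comparison of two codes on the octad. -/
noncomputable def keyEq (a b : Code) : Bool :=
  octL.all fun j => Nat.beq (a.1.getD j 0) (b.1.getD j 0) && (a.2.testBit j == b.2.testBit j)

theorem eqO_of_key {x y : K2} {a b : Code} (hx : Real x a) (hy : Real y b) (cx : x ∈ C1)
    (cy : y ∈ C1) (h : keyEq a b = true) : EqO x y := by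
  intro v hv
  have ex := (Leech.CentTwo.fixed_iff _).1 (C1_fixed cx hv)
  have ey := (Leech.CentTwo.fixed_iff _).1 (C1_fixed cy hv)
  refine Subtype.ext (funext fun p => ?_)
  by_cases hp : p ∈ octF
  · have hj := (octL_iff p).1 hp
    have h' := List.all_eq_true.1 h _ hj
    rw [Bool.and_eq_true, beq_iff_eq] at h'
    rw [← Leech.ptOf_idx p,
      ← Leech.toL_getD ((inc x • v : leechLattice) : GolayPt → ℤ) _ (Leech.idx_lt p),
      ← Leech.toL_getD ((inc y • v : leechLattice) : GolayPt → ℤ) _ (Leech.idx_lt p),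
      hx v, hy v, cF_getD _ _ (Leech.idx_lt p), cF_getD _ _ (Leech.idx_lt p),
      Nat.eq_of_beq_eq_true h'.1, h'.2]
  · rw [ex p hp, ey p hp]

theorem key_of_eqO {x y : K2} {a b : Code} (hx : Real x a) (hy : Real y b) (cx : x ∈ C1)
    (oa : OkC a) (ob : OkC b) (h : EqO x y) : keyEq a b = true := by
  refine List.all_eq_true.2 fun j hj => ?_
  have hj24 := octL_lt j hj
  have pa := oa.2.1 j hj24
  -- the preimage of a position of the octad lies in the octad
  have hq : a.1.getD j 0 ∈ octL := by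
    by_contra hn
    have hfix := C1_fixed (inv_mem cx) (oct_fixed hj)
    have h0 := (Leech.CentTwo.fixed_iff _).1 hfix (ptOf (a.1.getD j 0))
      (fun hm => hn (by have := (octL_iff _).1 hm; rwa [Leech.idx_ptOf _ pa] at this))
    have h1 := congrArg (fun l : List ℤ => l.getD j 0) (hx (inc x⁻¹ • oct (ptOf j)))
    simp only [← mul_smul, ← map_mul, mul_inv_cancel, map_one, one_smul] at h1
    rw [oct_getD j j hj24 hj24, if_pos rfl, cF_getD _ _ hj24, Leech.toL_getD _ _ pa, h0] at h1
    simp at h1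
  have e := congrArg (fun w : leechLattice => (toL (w : GolayPt → ℤ)).getD j 0) (h _ (oct_fixed hq))
  simp only [hx _, hy _, cF_getD _ _ hj24] at e
  have pb := ob.2.1 j hj24
  rw [oct_getD _ _ pa pa, oct_getD _ _ pa pb, if_pos rfl] at e
  rw [Bool.and_eq_true, beq_iff_eq]
  by_cases e' : b.1.getD j 0 = a.1.getD j 0
  · rw [if_pos e'] at e
    refine ⟨by rw [e']; exact Nat.beq_refl _, ?_⟩
    cases h1 : a.2.testBit j <;> cases h2 : b.2.testBit j <;> simp [h1, h2] at e ⊢
  · rw [if_neg e'] at e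
    cases h1 : a.2.testBit j <;> cases h2 : b.2.testBit j <;> simp [h1, h2] at e

/-- The trace of a code. -/
def trCode (c : Code) : ZMod 13 :=
  ((List.range 24).map fun j =>
    if c.1.getD j 0 = j then (if c.2.testBit j then -1 else 1) else 0).sum

theorem tr_real {x : K2} {c : Code} (hx : Real x c) (oc : OkC c) : tr x = trCode c := by
  have key : ∀ j, j < 24 → Leech.mat13 (inc x) (ptOf j) (ptOf j) =
      if c.1.getD j 0 = j then (if c.2.testBit j then -1 else 1) else 0 := by
    intro j hj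
    rw [Leech.mat13, Matrix.of_apply,
      ← Leech.toL_getD ((inc x • oct (ptOf j) : leechLattice) : GolayPt → ℤ) _ hj, hx, cF_getD _ _ hj,
      oct_getD _ _ hj (oc.2.1 j hj)]
    by_cases h : c.1.getD j 0 = j
    · rw [if_pos h, if_pos h]
      cases c.2.testBit j <;> decide
    · rw [if_neg h, if_neg h]
      cases c.2.testBit j <;> decide
  rw [tr, Matrix.trace]
  simp only [Matrix.diag_apply]
  rw [Leech.univ_eq_range, Finset.sum_image (fun a ha b hb e => by
    rw [← Leech.idx_ptOf a (Finset.mem_range.1 ha), ← Leech.idx_ptOf b (Finset.mem_range.1 hb), e])]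
  rw [Finset.sum_congr rfl fun j hj => key j (Finset.mem_range.1 hj), trCode,
    ← List.sum_toFinset _ List.nodup_range, List.toFinset_range]

/-- An element of the model from a lattice automorphism fixing the marked vector. -/
def ofGen (a : LGen) (h : a.f (toL Spor.vecU) = toL Spor.vecU) : K2 :=
  mk a.g (Subtype.ext (Leech.toL_injective ((a.spec _).trans h)))

/-- The letters. -/
def qG (a : ℕ) : LGen :=
  match a with
  | 0 => Leech.CentTwo.gM0
  | 1 => Leech.CentTwo.gM1
  | 2 => Leech.CentTwo.gM2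
  | _ => Leech.CentTwo.gX

theorem qG_fix : ∀ a : Fin 4, (qG a).f (toL Spor.vecU) = toL Spor.vecU := by decide +kernel

theorem qG_comm : ∀ a : Fin 4, ∀ j : Fin 24,
    Leech.Model.eqZ ((qG a).f (tGen.f (toL ((oct (ptOf j) : leechLattice) : GolayPt → ℤ))))
      (tGen.f ((qG a).f (toL ((oct (ptOf j) : leechLattice) : GolayPt → ℤ)))) = true := by
  decide +kernel

/-- A letter as an element. -/
def qEl (a : ℕ) : K2 := if h : a < 4 then ofGen (qG a) (qG_fix ⟨a, h⟩) else 1

theorem qEl_spec {a : ℕ} (ha : a < 4) : inc (qEl a) = (qG a).g ∧ qEl a ∈ C1 := by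
  have e : inc (qEl a) = (qG a).g := by rw [qEl, dif_pos ha]; rfl
  refine ⟨e, Subgroup.mem_centralizer_singleton_iff.2 (inc_injective ?_)⟩
  show inc (qEl a * z0) = inc (z0 * qEl a)
  rw [map_mul, map_mul, e, inc_z0]
  refine Leech.ext_of_oct fun i => Subtype.ext (Leech.toL_injective ?_)
  rw [mul_smul, mul_smul, (qG a).spec, tGen.spec, tGen.spec, (qG a).spec, ← Leech.ptOf_idx i]
  exact Leech.Model.eq_of_eqZ (qG_comm ⟨a, ha⟩ ⟨idx i, Leech.idx_lt i⟩)

/-- The product of letters. -/
def wEl (w : List ℕ) : K2 := (w.map qEl).prod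

/-- The action of a product of letters on lists. -/
def wF : List ℕ → List ℤ → List ℤ
  | [], l => l
  | a :: t, l => (qG a).f (wF t l)

theorem wEl_spec : ∀ {w : List ℕ}, (∀ a ∈ w, a < 4) → wEl w ∈ C1 ∧
    ∀ v : leechLattice, toL ((inc (wEl w) • v : leechLattice) : GolayPt → ℤ) =
      wF w (toL (v : GolayPt → ℤ))
  | [], _ => ⟨one_mem C1, fun v => by rw [wEl, List.map_nil, List.prod_nil, map_one, one_smul, wF]⟩
  | a :: t, h => by
    obtain ⟨h1, h2⟩ := wEl_spec (w := t) fun b hb => h b (List.mem_cons_of_mem _ hb)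
    obtain ⟨e, hc⟩ := qEl_spec (h a List.mem_cons_self)
    refine ⟨?_, fun v => ?_⟩
    · rw [wEl, List.map_cons, List.prod_cons]; exact mul_mem hc h1
    · rw [wEl, List.map_cons, List.prod_cons, map_mul, mul_smul, e, (qG a).spec]
      exact congrArg _ (h2 v)

end Cfsg.Agent.CoTwoUniq.Fus
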