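import Cfsg.Agent.CoTwoUniq.Fusion.Code
import Cfsg.Agent.CoTwoUniq.Fusion.Data

/-!
The monomial Sylow subgroup of the centraliser: the sign changes with a group of `256` permutations.
-/

set_option autoImplicit false
set_option maxRecDepth 100000

open Cfsg

namespace Cfsg.Agent.CoTwoUniq.Fus

open Cfsg.Agent.Leech (bitWord idx ptOf)

/-- The numbers of a packed list. -/
def unpk (b k n : ℕ) : List ℕ := (List.range k).map fun i => n / 2 ^ (b * i) % 2 ^ b

/-- The preimages of the `i`th permutation. -/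
def pP (i : ℕ) : List ℕ := unpk 5 24 (FusData.pL.getD i 0)

/-- The generators as codes. -/
def gCode (a : ℕ) : Code := (FusData.gP.getD a [], 0)

theorem gen_chk : ∀ a : Fin 4, PermOK (FusData.gP.getD a []) (FusData.gQ.getD a []) ∧
    (∀ i < 24, (FusData.gP.getD a []).getD i 0 < 24) ∧ (FusData.gP.getD a []).length = 24 ∧
    cmul (gCode a) (sC Data.zm) = cmul (sC Data.zm) (gCode a) := by
  decide +kernel

/-- The generators. -/
def gEl (a : ℕ) : K2 := if h : a < 4 then pm (gen_chk ⟨a, h⟩).1 else 1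

theorem gEl_spec {a : ℕ} (ha : a < 4) :
    Real (gEl a) (gCode a) ∧ OkC (gCode a) ∧ gEl a ∈ monoK := by
  rw [gEl, dif_pos ha]
  obtain ⟨h1, h2, h3, -⟩ := gen_chk ⟨a, ha⟩
  exact ⟨real_pm h1 h2, ⟨h3, h2, Nat.two_pow_pos 24⟩, pm_mem h1⟩

/-- The `i`th permutation as an element. -/
def elP (i : ℕ) : K2 := ((FusData.pW.getD i []).map gEl).prod

theorem word_chk : ∀ i : Fin 256, (FusData.pW.getD i []).all (fun a => Nat.blt a 4) = true ∧
    ((FusData.pW.getD i []).map gCode).foldr cmul (sC 0) = (pP i, 0) := by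
  decide +kernel

theorem p_lengths : FusData.pL.length = 256 ∧ FusData.pW.length = 256 ∧ pP 0 = List.range 24 ∧
    FusData.pW.getD 0 [] = [] := by
  refine ⟨?_, ?_, ?_, ?_⟩ <;> decide +kernel

theorem elP_zero : elP 0 = 1 := by rw [elP, p_lengths.2.2.2]; rfl

theorem elP_spec {i : ℕ} (hi : i < 256) :
    Real (elP i) (pP i, 0) ∧ OkC (pP i, 0) ∧ elP i ∈ monoK := by
  obtain ⟨h1, h2⟩ := word_chk ⟨i, hi⟩
  have ha : ∀ a ∈ FusData.pW.getD i [], a < 4 := fun a h => Nat.ble_eq.mp (List.all_eq_true.1 h1 a h)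
  have h := Real.prod ((FusData.pW.getD i []).map fun a => (gEl a, gCode a)) (fun p hp => by
    obtain ⟨a, ha', rfl⟩ := List.mem_map.1 hp
    exact ⟨(gEl_spec (ha a ha')).1, (gEl_spec (ha a ha')).2.1⟩)
  rw [List.map_map, List.map_map,
    show (Prod.snd ∘ fun a => (gEl a, gCode a)) = gCode from rfl,
    show (Prod.fst ∘ fun a => (gEl a, gCode a)) = gEl from rfl] at h
  rw [show ((FusData.pW.getD i []).map gCode).foldr cmul (sC 0) = (pP i, 0) from h2] at h
  refine ⟨h.1, h.2, list_prod_mem fun x hx => ?_⟩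
  obtain ⟨a, ha', rfl⟩ := List.mem_map.1 hx
  exact (gEl_spec (ha a ha')).2.2

/-- The element of an index and a mask. -/
def el (i n : ℕ) : K2 := sgn n * elP i

theorem el_spec {i n : ℕ} (hi : i < 256) (hn : n ∈ avMasks) :
    Real (el i n) (pP i, n) ∧ OkC (pP i, n) := by
  obtain ⟨h1, h2, -⟩ := elP_spec hi
  refine ⟨?_, ⟨h2.1, h2.2.1, avMasks_lt hn⟩⟩
  have h := (real_av hn).mul h1 (okC_av hn)
  have e : cmul (sC n) (pP i, 0) = (pP i, n) := by
    refine Prod.ext (List.ext_getElem (by simp [cmul, h2.1]) fun j a b => ?_) ?_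
    · have hj : j < 24 := by simpa [cmul] using a
      simp only [cmul, sC, List.getElem_map, List.getElem_range, range_getD hj]
      rw [List.getD_eq_getElem _ _ b]
    · show n ^^^ pmask (List.range 24) 0 = n
      rw [show pmask (List.range 24) 0 = 0 by decide +kernel, Nat.xor_zero]
  rwa [e] at h

theorem mask_zero : (0 : ℕ) ∈ avMasks := by decide +kernel

theorem el_sgn (n : ℕ) : el 0 n = sgn n := by rw [el, elP_zero, mul_one]

theorem pP_inj : ∀ i j : Fin 256, FusData.pL.getD i 0 = FusData.pL.getD j 0 → i = j := by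
  have h : diffL FusData.pL = true := by decide +kernel
  intro i j e
  have hnd : FusData.pL.Nodup := nodup_of_diffL h
  have hi : (i : ℕ) < FusData.pL.length := by rw [p_lengths.1]; exact i.2
  have hj : (j : ℕ) < FusData.pL.length := by rw [p_lengths.1]; exact j.2
  rw [List.getD_eq_getElem _ _ hi, List.getD_eq_getElem _ _ hj] at e
  exact Fin.ext ((List.Nodup.getElem_inj_iff hnd).1 e)

/-- The packed list of a permutation. -/
def pack5 (l : List ℕ) : ℕ := l.foldr (fun v acc => v + 32 * acc) 0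

theorem pack_chk : ∀ i : Fin 256, pack5 (pP i) = FusData.pL.getD i 0 := by decide +kernel

theorem el_inj {i j m n : ℕ} (hi : i < 256) (hj : j < 256) (hm : m ∈ avMasks) (hn : n ∈ avMasks)
    (h : el i m = el j n) : i = j ∧ m = n := by
  obtain ⟨r1, o1⟩ := el_spec hi hm
  obtain ⟨r2, o2⟩ := el_spec hj hn
  rw [h] at r1
  have e := r1.code_unique r2 o1 o2
  refine ⟨?_, congrArg Prod.snd e⟩
  have := pP_inj ⟨i, hi⟩ ⟨j, hj⟩ (by
    rw [← pack_chk, ← pack_chk]; exact congrArg pack5 (congrArg Prod.fst e))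
  exact congrArg Fin.val this

/-- An element with the code of a listed one is that one. -/
theorem eq_el {x : K2} {i n : ℕ} {c : Code} (hi : i < 256) (hn : n ∈ avMasks) (h : Real x c)
    (e : c = (pP i, n)) : x = el i n := by
  subst e; exact h.unique (el_spec hi hn).1

/-- The check of a product with a generator, on packed lists. -/
noncomputable def tabOK (a i : ℕ) : Bool :=
  CosetCert.force (FusData.pL.getD i 0) fun n =>
    CosetCert.force (FusData.pT.getD i 0 / 2 ^ (8 * a) % 256) fun k =>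
      CosetCert.force (FusData.pL.getD k 0) fun m =>
        (List.range 24).all fun j =>
          Nat.beq (m / 2 ^ (5 * j) % 2 ^ 5) ((FusData.gP.getD a []).getD (n / 2 ^ (5 * j) % 2 ^ 5) 0)

theorem table_bool : ∀ a : Fin 4, ((List.range 256).all fun i => tabOK a i) = true := by
  decide +kernel

theorem table_chk (i : Fin 256) (a : Fin 4) :
    FusData.pT.getD i 0 / 2 ^ (8 * a.val) % 256 < 256 ∧
    cmul (pP i, 0) (gCode a) = (pP (FusData.pT.getD i 0 / 2 ^ (8 * a.val) % 256), 0) := by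
  refine ⟨Nat.mod_lt _ (by norm_num), Prod.ext (List.ext_getElem (by simp [cmul, pP, unpk])
    fun j h1 h2 => ?_) ?_⟩
  · have hj : j < 24 := by simpa [cmul] using h1
    have h := all_range (table_bool a) i.2
    simp only [tabOK, CosetCert.force_eq] at h
    have e := Nat.eq_of_beq_eq_true (all_range h hj)
    simp only [cmul, gCode, pP, unpk, List.getElem_map, List.getElem_range]
    rw [List.getD_eq_getElem _ _ (show j < ((List.range 24).map _).length by simpa using hj)]
    simp only [List.getElem_map, List.getElem_range]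
    exact e.symm
  · show 0 ^^^ pmask (pP i) 0 = 0
    rw [pmask_zero, Nat.xor_zero]

theorem elP_mul {i j : ℕ} (hi : i < 256) (hj : j < 256) :
    ∃ k < 256, elP i * elP j = elP k := by
  have key : ∀ w : List ℕ, (∀ a ∈ w, a < 4) → ∀ i, i < 256 →
      ∃ k < 256, elP i * (w.map gEl).prod = elP k := by
    intro w
    induction w with
    | nil => exact fun _ i hi => ⟨i, hi, by simp⟩
    | cons a t ih =>
      intro h i hi
      have ha := h a List.mem_cons_self
      obtain ⟨t1, t2⟩ := table_chk ⟨i, hi⟩ ⟨a, ha⟩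
      obtain ⟨r1, o1, -⟩ := elP_spec hi
      have e : elP i * gEl a = elP (FusData.pT.getD i 0 / 2 ^ (8 * a) % 256) := by
        have h' := r1.mul (gEl_spec ha).1 o1
        rw [show cmul (pP i, 0) (gCode a) = _ from t2] at h'
        exact h'.unique (elP_spec t1).1
      obtain ⟨k, hk, hke⟩ := ih (fun b hb => h b (List.mem_cons_of_mem _ hb)) _ t1
      exact ⟨k, hk, by rw [List.map_cons, List.prod_cons, ← mul_assoc, e, hke]⟩
  exact key _ (fun a ha => Nat.ble_eq.mp (List.all_eq_true.1 (word_chk ⟨j, hj⟩).1 a ha)) i hi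

theorem el_mul {i j m n : ℕ} (hi : i < 256) (hj : j < 256) (hm : m ∈ avMasks) (hn : n ∈ avMasks) :
    ∃ k < 256, ∃ l ∈ avMasks, el i m * el j n = el k l := by
  obtain ⟨r, o, hK⟩ := elP_spec hi
  obtain ⟨hm', he⟩ := pmask_mem r o hK hn
  obtain ⟨k, hk, hke⟩ := elP_mul hi hj
  refine ⟨k, hk, m ^^^ pmask (pP i) n, avMasks_xor hm hm', ?_⟩
  rw [el, el, el, sgn_xor (avMasks_spec m hm) (avMasks_spec _ hm'), ← hke, ← he]
  group

/-- The Sylow subgroup. -/
noncomputable def sylM : Subgroup K2 :=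
  let _ : Finite K2 := co2_finite
  { carrier := {x | ∃ i < 256, ∃ n ∈ avMasks, x = el i n}
    one_mem' := ⟨0, by norm_num, 0, mask_zero, by rw [el_sgn, sgn_zero]⟩
    mul_mem' := by
      rintro _ _ ⟨i, hi, m, hm, rfl⟩ ⟨j, hj, n, hn, rfl⟩
      exact el_mul hi hj hm hn
    inv_mem' := by
      rintro a ha
      classical
      have hpow : ∀ k : ℕ, ∃ i < 256, ∃ n ∈ avMasks, a ^ k = el i n := by
        intro k
        induction k with
        | zero => exact ⟨0, by norm_num, 0, mask_zero, by rw [el_sgn, sgn_zero, pow_zero]⟩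
        | succ k ih =>
          obtain ⟨i, hi, m, hm, e⟩ := ih
          obtain ⟨j, hj, n, hn, e'⟩ := ha
          rw [pow_succ, e, e']
          exact el_mul hi hj hm hn
      have h : a⁻¹ = a ^ (orderOf a - 1) := inv_eq_of_mul_eq_one_right (by
        rw [← pow_succ', Nat.sub_add_cancel (orderOf_pos a), pow_orderOf_eq_one])
      show ∃ i < 256, ∃ n ∈ avMasks, a⁻¹ = el i n
      rw [h]; exact hpow _ }

theorem mem_sylM {x : K2} : x ∈ sylM ↔ ∃ i < 256, ∃ n ∈ avMasks, x = el i n := Iff.rfl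

theorem el_mem {i n : ℕ} (hi : i < 256) (hn : n ∈ avMasks) : el i n ∈ sylM := ⟨i, hi, n, hn, rfl⟩

theorem gEl_comm {a : ℕ} (ha : a < 4) : gEl a ∈ C1 := by
  obtain ⟨r, o, -⟩ := gEl_spec ha
  refine Subgroup.mem_centralizer_singleton_iff.2 ?_
  show gEl a * z0 = z0 * gEl a
  have hz : sgn Data.zm = z0 := sgn_zm
  rw [← hz]
  have h1 := r.mul (real_sgn av_zm) o
  rw [show cmul (gCode a) (sC Data.zm) = _ from (gen_chk ⟨a, ha⟩).2.2.2] at h1
  exact h1.unique ((real_sgn av_zm).mul r (okC_sC (by decide +kernel)))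

theorem sylM_le : sylM ≤ C1 := by
  rintro _ ⟨i, hi, n, hn, rfl⟩
  refine mul_mem (sgn_mem_C1' hn) (list_prod_mem fun x hx => ?_)
  obtain ⟨a, ha, rfl⟩ := List.mem_map.1 hx
  exact gEl_comm (Nat.ble_eq.mp (List.all_eq_true.1 (word_chk ⟨i, hi⟩).1 a ha))
where
  sgn_mem_C1' {n : ℕ} (hn : n ∈ avMasks) : sgn n ∈ C1 := by
    refine Subgroup.mem_centralizer_singleton_iff.2 ?_
    show sgn n * S2136.tCo2 = S2136.tCo2 * sgn n
    rw [← sgn_zm]
    exact (sgn_comm (avMasks_spec n hn) av_zm).eq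

theorem avMasks_facts : avMasks.length = 1024 ∧ avMasks.Nodup := by
  have h : avMasks.length = 1024 ∧ Leech.Model.noRep 0 (avMasks.map (· % 4096)) = true := by
    constructor <;> decide +kernel
  exact ⟨h.1, List.Nodup.of_map _ (Leech.Model.noRep_spec _ 0 h.2).1⟩

set_option maxHeartbeats 1000000 in
theorem card_sylM : Nat.card sylM = 2 ^ 18 := by
  classical
  let f : Fin 256 × Fin avMasks.length → sylM := fun p =>
    ⟨el p.1 avMasks[p.2], el_mem p.1.2 (List.getElem_mem p.2.2)⟩
  have hf : Function.Bijective f := by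
    refine ⟨fun p q h => ?_, fun ⟨x, i, hi, n, hn, hx⟩ => ?_⟩
    · obtain ⟨h1, h2⟩ := el_inj p.1.2 q.1.2 (List.getElem_mem p.2.2) (List.getElem_mem q.2.2)
        (congrArg Subtype.val h)
      exact Prod.ext (Fin.ext h1) (Fin.ext ((List.Nodup.getElem_inj_iff avMasks_facts.2).1 h2))
    · obtain ⟨j, hj, rfl⟩ := List.getElem_of_mem hn
      exact ⟨(⟨i, hi⟩, ⟨j, hj⟩), Subtype.ext hx.symm⟩
  rw [← Nat.card_eq_of_bijective f hf, Nat.card_prod, Nat.card_fin, Nat.card_fin, avMasks_facts.1]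
  norm_num

end Cfsg.Agent.CoTwoUniq.Fus
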